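import Cfsg.Agent.Lib.Linear.ShortPres.Root

/-!
# Short presentations of `SL₂` in characteristic two
-/

set_option autoImplicit false

namespace Cfsg.Lib.Linear.ShortPres

open Polynomial Matrix
open scoped MatrixGroups

variable {F : Type*} [Field F] [Fintype F] [CharP F 2]

theorem xs_self (a : F) : xs a * xs a = 1 := by
  rw [← xs_add, CharTwo.add_self_eq_zero, xs_zero]

theorem card_SL_even : Nat.card SL(2, F) = Fintype.card F * ((Fintype.card F - 1) * (1 + Fintype.card F)) := by
  rw [Cfsg.Lib.Linear.Two.card_SL_two]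
  congr 1
  have := Fintype.card_pos (α := F)
  zify [Nat.one_le_pow 2 _ this, this]
  ring

theorem closure_image_eq_top {a : F} (hg : Gens 2 (a ^ 2)) (r : Fˣ) (hr : (r : F) = a) (b : Fˣ)
    (hb : ∃ i : ℕ, r = b ^ i) :
    Subgroup.closure ({xs 1, ds b, ts} : Set SL(2, F)) = ⊤ := by
  set S := Subgroup.closure ({xs 1, ds b, ts} : Set SL(2, F))
  have h1 : xs 1 ∈ S := Subgroup.subset_closure (Or.inl rfl)
  have h2 : ds b ∈ S := Subgroup.subset_closure (Or.inr (Or.inl rfl))
  refine closure_gens (fun c => ?_) (Subgroup.subset_closure (Or.inr (Or.inr rfl)))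
  obtain ⟨P, hP⟩ := hg c
  obtain ⟨i, hi⟩ := hb
  have := word_xs (MonoidHom.id SL(2, F)) r P
  simp only [MonoidHom.id_apply, hr, hP] at this
  rw [← this]
  refine word_mem_of 2 _ _ fun m _ => ?_
  have hrS : ds r ∈ S := by rw [hi, ds_pow]; exact pow_mem h2 i
  exact S.mul_mem (S.mul_mem (pow_mem hrS m) h1) (S.inv_mem (pow_mem hrS m))

theorem present_two (h2 : Fintype.card F = 2) :
    ∃ rels : Finset (FreeGroup (Fin 3)), rels.card ≤ 5 ∧
      Nonempty (PresentedGroup (↑rels : Set (FreeGroup (Fin 3))) ≃* SL(2, F)) := by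
  refine Exists.imp (fun rels h => ⟨h.1.trans (by simp), h.2⟩) (present [(U0 ^ 2, 1), (H0, 1), (T0 * U0 * T0⁻¹, U0 * T0 * U0)]
    (xs (1 : F)) (ds 1) ts ?_ ?_ ?_)
  · intro e he
    simp only [List.mem_cons, List.not_mem_nil, or_false] at he
    rcases he with rfl | rfl | rfl
    · simp only [map_pow, map_one, FreeGroup.lift_apply_of, Matrix.cons_val_zero]
      rw [pow_two, xs_self]
    · simp [ds_one]
    · simp only [map_mul, map_inv, FreeGroup.lift_apply_of, Matrix.cons_val_zero, Matrix.cons_val]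
      have h := ts_conj_xs (1 : Fˣ)
      rw [inv_one, ds_one, Units.val_one, mul_one, CharTwo.neg_eq] at h
      exact h
  · refine closure_image_eq_top (a := 1) (fun c => ?_) 1 Units.val_one 1 ⟨0, (pow_zero _).symm⟩
    classical
    refine ⟨C (if c = 0 then 0 else 1), ?_⟩
    split_ifs with hc
    · simp [hc]
    · simp only [map_one]
      have := FiniteField.pow_card_sub_one_eq_one c hc
      rw [h2] at this
      simpa using this.symm
  · intro P _ u h t φ hgen hu hh ht hrels
    have r1 := hrels _ (List.mem_cons_self)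
    have r2 := hrels _ (List.mem_cons_of_mem _ (List.mem_cons_self))
    have r3 := hrels _ (List.mem_cons_of_mem _ (List.mem_cons_of_mem _ (List.mem_cons_self)))
    simp only [map_mul, map_inv, map_pow, map_one, FreeGroup.lift_apply_of, Matrix.cons_val_zero,
      Matrix.cons_val_one, Matrix.cons_val] at r1 r2 r3
    have huu : u * u = 1 := by rw [← pow_two, r1]
    have htt : t * t = 1 := by
      have h' : (t * u * t⁻¹) * (t * u * t⁻¹) = (u * t * u) * (u * t * u) := by rw [r3]
      have e1 : (t * u * t⁻¹) * (t * u * t⁻¹) = 1 := by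
        rw [show (t * u * t⁻¹) * (t * u * t⁻¹) = t * (u * u) * t⁻¹ by simp [mul_assoc], huu, mul_one, mul_inv_cancel]
      have e2 : (u * t * u) * (u * t * u) = u * (t * t) * u := by
        rw [show (u * t * u) * (u * t * u) = u * t * (u * u) * (t * u) by simp [mul_assoc], huu, mul_one]
        simp [mul_assoc]
      rw [e1, e2] at h'
      calc t * t = u⁻¹ * (u * (t * t) * u) * u⁻¹ := by simp [mul_assoc]
        _ = 1 := by rw [← h', mul_one, ← _root_.mul_inv_rev, huu, inv_one]
    subst r2
    haveI : Finite (Subgroup.zpowers u) := (isOfFinOrder_iff_pow_eq_one.2 ⟨2, two_pos, r1⟩).finite_zpowers.to_subtype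
    have C : Cells (Subgroup.zpowers u) u 1 t := by
      refine ⟨hgen, Subgroup.mem_zpowers u, one_mem _, by simp, by rw [htt]; exact one_mem _, fun x hx => ?_⟩
      obtain ⟨m, rfl⟩ := Subgroup.mem_zpowers_iff.1 hx
      rcases Int.even_or_odd m with ⟨i, rfl⟩ | ⟨i, rfl⟩
      · left
        rw [_root_.zpow_add, ← (Commute.refl u).mul_zpow, huu, _root_.one_zpow]
        exact one_mem _
      · right
        refine ⟨u, Subgroup.mem_zpowers u, 1, one_mem _, u, Subgroup.mem_zpowers u, ?_⟩
        rw [_root_.zpow_add, two_mul, _root_.zpow_add, ← (Commute.refl u).mul_zpow, huu, _root_.one_zpow, one_mul, zpow_one, r3,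
          mul_one]
    obtain ⟨hfin, hcard⟩ := C.card_le one_pos (by simp) (fun y : Subgroup.zpowers u => (y : P))
      fun y hy => ⟨⟨y, hy⟩, 1, one_mem _, one_mem _, (one_mul y).symm⟩
    refine ⟨hfin, hcard.trans ?_⟩
    have hle : Nat.card (Subgroup.zpowers u) ≤ 2 := by
      rw [Nat.card_zpowers]; exact Nat.le_of_dvd two_pos (orderOf_dvd_of_pow_eq_one r1)
    rw [card_SL_even, h2, mul_one]
    exact (Nat.mul_le_mul hle (Nat.add_le_add_left hle 1)).trans (by norm_num)

theorem present_even (h4 : 4 ≤ Fintype.card F) :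
    ∃ rels : Finset (FreeGroup (Fin 3)), rels.card ≤ 5 ∧
      Nonempty (PresentedGroup (↑rels : Set (FreeGroup (Fin 3))) ≃* SL(2, F)) := by
  classical
  letI := ZMod.algebra F 2
  obtain ⟨ζ, hζ⟩ := IsCyclic.exists_generator (α := Fˣ)
  have hord : orderOf ζ = Fintype.card F - 1 := by
    rw [orderOf_eq_card_of_forall_mem_zpowers hζ, Nat.card_eq_fintype_card, Fintype.card_units]
  have hgen : ∀ x : Fˣ, ∃ i : ℕ, x = ζ ^ i := fun x => by
    obtain ⟨i, hi⟩ := (mem_powers_iff_mem_zpowers.2 (hζ x) : x ∈ Submonoid.powers ζ)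
    exact ⟨i, hi.symm⟩
  have hg : Gens 2 ((ζ : F) ^ 2) := gens_sq (by rw [orderOf_units, hord])
  have hqdvd : 2 ∣ Fintype.card F := by
    obtain ⟨e, -, he⟩ := FiniteField.card F 2
    rw [he]; exact dvd_pow_self 2 e.pos.ne'
  have hsqrt : ∀ c : F, c ≠ 0 → ∃ i : ℕ, c = ((ζ : F) ^ i) ^ 2 := by
    intro c hc
    obtain ⟨m, hm⟩ := hgen (Units.mk0 c hc)
    have hcm : c = (ζ : F) ^ m := by rw [← Units.val_pow_eq_pow_val, ← hm, Units.val_mk0]
    have hone : (ζ : F) ^ (Fintype.card F - 1) = 1 := FiniteField.pow_card_sub_one_eq_one (ζ : F) ζ.ne_zero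
    rcases Nat.even_or_odd m with ⟨i, rfl⟩ | ⟨i, rfl⟩
    · exact ⟨i, by rw [hcm, ← pow_mul]; ring_nf⟩
    · refine ⟨i + Fintype.card F / 2, ?_⟩
      rw [hcm, ← pow_mul, show (i + Fintype.card F / 2) * 2 = 2 * i + 1 + (Fintype.card F - 1) by omega,
        pow_add _ (2 * i + 1), hone, mul_one]
  obtain ⟨n, Pn, hn, hdeg, hsmall, hstep⟩ := exists_minpoly_data (p := 2) ((ζ : F) ^ 2)
  have hb : (ζ : F) ^ 2 + 1 ≠ 0 := by
    intro h
    rw [CharTwo.add_eq_zero] at h
    have hd : orderOf (ζ : F) ∣ 2 := orderOf_dvd_of_pow_eq_one h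
    rw [orderOf_units, hord] at hd
    have := Nat.le_of_dvd two_pos hd
    omega
  obtain ⟨l, hl⟩ := hsqrt _ hb
  set N := Fintype.card F - 1 with hN
  refine Exists.imp (fun rels h => ⟨h.1.trans (by simp), h.2⟩) (present
    [(U0 ^ 2, 1), (cj U0 H0 l, cj U0 H0 1 * U0), (cj U0 H0 n, word 2 U0 H0 Pn * H0 ^ N),
      (T0 * H0 * T0⁻¹, H0⁻¹), (T0 * U0 * T0⁻¹, U0 * T0 * U0)]
    (xs (1 : F)) (ds ζ) ts ?_ ?_ ?_)
  · intro e he
    have hcj : ∀ i, cj (xs (1 : F)) (ds ζ) i = xs (((ζ : F) ^ 2) ^ i) := cj_xs (MonoidHom.id SL(2, F)) ζ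
    simp only [List.mem_cons, List.not_mem_nil, or_false] at he
    rcases he with rfl | rfl | rfl | rfl | rfl <;>
      simp only [map_mul, map_inv, map_pow, map_one, map_cj, map_word, FreeGroup.lift_apply_of,
        Matrix.cons_val_zero, Matrix.cons_val_one, Matrix.cons_val]
    · rw [pow_two, xs_self]
    · rw [hcj, hcj, ← xs_add, pow_one, hl, ← pow_mul, ← pow_mul, mul_comm 2 l]
    · have := word_xs (MonoidHom.id SL(2, F)) ζ Pn
      simp only [MonoidHom.id_apply] at this
      rw [hcj, this, hstep, ← ds_pow, ← hord, pow_orderOf_eq_one, ds_one, mul_one]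
    · exact ts_conj_ds ζ
    · have h := ts_conj_xs (1 : Fˣ)
      rw [inv_one, ds_one, Units.val_one, mul_one, CharTwo.neg_eq] at h
      exact h
  · exact closure_image_eq_top hg ζ rfl ζ ⟨1, (pow_one ζ).symm⟩
  · intro P _ u h t φ hgenP hu hh ht hrels
    have r0 := hrels _ (List.mem_cons_self)
    have r1 := hrels _ (List.mem_cons_of_mem _ (List.mem_cons_self))
    have r2 := hrels _ (List.mem_cons_of_mem _ (List.mem_cons_of_mem _ (List.mem_cons_self)))
    have r3 := hrels _ (List.mem_cons_of_mem _ (List.mem_cons_of_mem _ (List.mem_cons_of_mem _ (List.mem_cons_self))))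
    have r4 := hrels _ (List.mem_cons_of_mem _ (List.mem_cons_of_mem _ (List.mem_cons_of_mem _
      (List.mem_cons_of_mem _ (List.mem_cons_self)))))
    simp only [map_mul, map_inv, map_pow, map_one, map_cj, map_word, FreeGroup.lift_apply_of,
      Matrix.cons_val_zero, Matrix.cons_val_one, Matrix.cons_val] at r0 r1 r2 r3 r4
    set U := orb u h with hU
    -- commutation
    have hc1 : Commute u (cj u h 1) := by
      have hA : cj u h 1 * cj u h 1 = 1 := by rw [← pow_two]; exact cj_pow r0 1
      have hu2 : u * u = 1 := by rw [← pow_two, r0]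
      have hB : (cj u h 1 * u) * (cj u h 1 * u) = 1 := by rw [← r1, ← pow_two]; exact cj_pow r0 l
      show u * cj u h 1 = cj u h 1 * u
      calc u * cj u h 1 = (cj u h 1)⁻¹ * ((cj u h 1 * u) * (cj u h 1 * u)) * u⁻¹ := by simp [mul_assoc]
        _ = cj u h 1 * u := by rw [hB, mul_one, inv_eq_of_mul_eq_one_left hA, inv_eq_of_mul_eq_one_left hu2]
    have hc : ∀ i, Commute u (cj u h i) := commute_cj ((Commute.refl h).pow_right l) hc1 r1
    set z := h ^ N with hz
    have hzU : z ∈ U := by
      have : z = (word 2 u h Pn)⁻¹ * cj u h n := by rw [r2, inv_mul_cancel_left]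
      rw [this]
      exact mul_mem (inv_mem (word_mem_orb 2 u h Pn)) (cj_mem u h n)
    have hzz : z * z = 1 := by rw [← pow_two]; exact orb_pow hc r0 hzU
    have hzh : h * z * h⁻¹ = z := by rw [((Commute.refl h).pow_right N).eq, mul_inv_cancel_right]
    have hzt : t * z * t⁻¹ = z := by
      rw [hz, ← conj_pow, r3, inv_pow]
      exact inv_eq_of_mul_eq_one_left hzz
    have hzc : z ∈ Subgroup.center P := by
      have hS : ({u, h, t} : Set P) ⊆ (Subgroup.centralizer ({z} : Set P) : Set P) := by
        intro x hx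
        rw [SetLike.mem_coe, Subgroup.mem_centralizer_singleton_iff]
        simp only [Set.mem_insert_iff, Set.mem_singleton_iff] at hx
        rcases hx with rfl | rfl | rfl
        · exact (orb_comm hc (self_mem _ _) hzU).eq
        · exact mul_inv_eq_iff_eq_mul.1 hzh
        · exact mul_inv_eq_iff_eq_mul.1 hzt
      rw [Subgroup.mem_center_iff]
      intro g
      have : g ∈ Subgroup.centralizer ({z} : Set P) := by
        have h' := (Subgroup.closure_le _).2 hS
        rw [hgenP] at h'
        exact h' (Subgroup.mem_top g)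
      exact Subgroup.mem_centralizer_singleton_iff.1 this
    have hcard := orb_card (T := {z}) two_pos hn r0 hc
      (fun x hx => by rw [Finset.mem_singleton] at hx; subst hx; exact ⟨hzU, hzh⟩)
      (by
        rw [r2]
        exact mul_mem (word_mem_first hdeg _) (Subgroup.subset_closure (Or.inl (by simp))))
    rw [← hU, Finset.card_singleton] at hcard
    haveI := hcard.1
    have hUle : Nat.card U ≤ 2 * Fintype.card F :=
      hcard.2.trans (by rw [pow_add, pow_one]; exact Nat.mul_le_mul_left 2 hsmall)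
    choose w hw hwφ using surj_image (p := 2) (MonoidHom.id SL(2, F)) φ ζ hu hh hg
    simp only [MonoidHom.id_apply] at hwφ
    have himg : ∀ x ∈ U, ∃ c : F, φ x = xs c := fun x hx =>
      exists_image (MonoidHom.id SL(2, F)) φ ζ hu hh hx
    have hzφ : φ z = 1 := by
      rw [hz, map_pow, hh, ← ds_pow, ← hord, pow_orderOf_eq_one, ds_one]
    -- the kernel on the root subgroup
    let ψ : U →* SL(2, F) := φ.comp U.subtype
    have hrange : Nat.card F ≤ Nat.card ψ.range :=
      Nat.card_le_card_of_injective (fun c => (⟨xs c, ⟨w c, hw c⟩, hwφ c⟩ : ψ.range))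
        fun c d h => xs_inj (congrArg Subtype.val h)
    have hker : Nat.card ψ.ker * Nat.card ψ.range = Nat.card U := by
      rw [← Subgroup.index_ker, Subgroup.card_mul_index]
    have hker2 : Nat.card ψ.ker ≤ 2 := by
      rw [Nat.card_eq_fintype_card (α := F)] at hrange
      have h' : Nat.card ψ.ker * Fintype.card F ≤ 2 * Fintype.card F :=
        le_trans (Nat.mul_le_mul_left _ hrange) (hker.le.trans hUle)
      exact Nat.le_of_mul_le_mul_right h' Fintype.card_pos
    have hkerz : ∀ x ∈ U, φ x = 1 → z ≠ 1 → x = 1 ∨ x = z := by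
      intro x hx hx1 hz1
      by_contra hne
      push Not at hne
      have : (2 : ℕ) < Nat.card ψ.ker := by
        let f : Fin 3 → ψ.ker :=
          ![⟨1, one_mem _⟩, ⟨⟨z, hzU⟩, hzφ⟩, ⟨⟨x, hx⟩, hx1⟩]
        have hf : Function.Injective f := by
          intro a b hab
          have := congrArg (fun y : ψ.ker => ((y : U) : P)) hab
          fin_cases a <;> fin_cases b <;> simp [f] at this <;>
            first
            | rfl
            | exact absurd this hz1
            | exact absurd this.symm hz1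
            | exact absurd this hne.1
            | exact absurd this.symm hne.1
            | exact absurd this hne.2
            | exact absurd this.symm hne.2
        have := Nat.card_le_card_of_injective f hf
        rw [Nat.card_fin] at this
        omega
      omega
    -- `z = 1` or the cover has twice the order of the special linear group
    have hnorm : h ∈ Subgroup.normalizer (U : Set P) :=
      Subgroup.mem_normalizer_fintype fun x hx => orb_closed (Commute.refl h)
        (by simpa [cj] using cj_mem u h 1) hx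
    have hconjU : ∀ (i : ℕ) (x : P), x ∈ U → h ^ i * x * (h ^ i)⁻¹ ∈ U := fun i x hx =>
      (Subgroup.mem_normalizer_iff.1 (pow_mem hnorm i) x).1 hx
    have hconjU' : ∀ (i : ℕ) (x : P), x ∈ U → (h ^ i)⁻¹ * x * h ^ i ∈ U := fun i x hx => by
      simpa using (Subgroup.mem_normalizer_iff.1 (inv_mem (pow_mem hnorm i)) x).1 hx
    have htt : t * t = 1 := by
      have hu2 : u * u = 1 := by rw [← pow_two, r0]
      have h' : (t * u * t⁻¹) * (t * u * t⁻¹) = (u * t * u) * (u * t * u) := by rw [r4]
      have e1 : (t * u * t⁻¹) * (t * u * t⁻¹) = 1 := by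
        rw [show (t * u * t⁻¹) * (t * u * t⁻¹) = t * (u * u) * t⁻¹ by simp [mul_assoc], hu2, mul_one, mul_inv_cancel]
      have e2 : (u * t * u) * (u * t * u) = u * (t * t) * u := by
        rw [show (u * t * u) * (u * t * u) = u * t * (u * u) * (t * u) by simp [mul_assoc], hu2, mul_one]
        simp [mul_assoc]
      rw [e1, e2] at h'
      calc t * t = u⁻¹ * (u * (t * t) * u) * u⁻¹ := by simp [mul_assoc]
        _ = 1 := by rw [← h', mul_one, ← _root_.mul_inv_rev, hu2, inv_one]
    have hflip : ∀ i : ℕ, t * h ^ i = (h ^ i)⁻¹ * t := by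
      intro i
      rw [← mul_inv_eq_iff_eq_mul, ← conj_pow, r3, inv_pow]
    have hkerH : ∀ x ∈ U, φ x = 1 → x = 1 ∨ x = z := by
      intro x hx hx1
      rcases eq_or_ne z 1 with hz1 | hz1
      · left
        by_contra hne
        have hle' : Nat.card U ≤ Fintype.card F := by
          have h' := orb_card (T := (∅ : Finset P)) two_pos hn r0 hc (by simp)
            (by simpa [r2, hz1] using word_mem_first (u := u) (g := h) hdeg ∅)
          simpa using h'.2.trans (by simpa using hsmall)
        have h1 : 1 < Nat.card ψ.ker := by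
          refine Finite.one_lt_card_iff_nontrivial.2 ⟨⟨⟨⟨x, hx⟩, hx1⟩, 1, fun e => hne ?_⟩⟩
          exact congrArg (fun y : ψ.ker => ((y : U) : P)) e
        rw [Nat.card_eq_fintype_card (α := F)] at hrange
        have h2 : 2 * Fintype.card F ≤ Nat.card ψ.ker * Nat.card ψ.range := Nat.mul_le_mul h1 hrange
        omega
      · exact hkerz x hx hx1 hz1
    have C : Cells U u h t := by
      refine ⟨hgenP, self_mem u h, hnorm, r3, by rw [htt]; exact one_mem _, fun x hx => ?_⟩
      obtain ⟨c, hxc⟩ := himg x hx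
      by_cases hc0 : c = 0
      · left
        rcases hkerH x hx (by rw [hxc, hc0, xs_zero]) with rfl | rfl
        · exact one_mem _
        · exact pow_mem (Subgroup.mem_zpowers h) N
      right
      obtain ⟨i, hi⟩ := hsqrt c hc0
      set y := h ^ i * u * (h ^ i)⁻¹ with hy
      have hyU : y ∈ U := hconjU i u (self_mem u h)
      set d := y⁻¹ * x with hd
      have hdU : d ∈ U := mul_mem (inv_mem hyU) hx
      have hd1 : φ d = 1 := by
        rw [hd, map_mul, map_inv, hy, map_mul, map_mul, map_inv, map_pow, hh, hu, ← ds_pow, ds_conj,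
          Units.val_pow_eq_pow_val, mul_one, hxc, ← hi, inv_mul_cancel]
      have hdc : d ∈ Subgroup.center P := by
        rcases hkerH d hdU hd1 with e | e <;> rw [e]
        · exact one_mem _
        · exact hzc
      refine ⟨(h ^ i)⁻¹ * u * h ^ i, hconjU' i u (self_mem u h), (h ^ i)⁻¹ * (h ^ i)⁻¹,
        mul_mem (inv_mem (pow_mem (Subgroup.mem_zpowers h) i)) (inv_mem (pow_mem (Subgroup.mem_zpowers h) i)),
        (h ^ i)⁻¹ * u * h ^ i * d, mul_mem (hconjU' i u (self_mem u h)) hdU, ?_⟩
      have e1 := hflip i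
      have e2 : (h ^ i)⁻¹ * t⁻¹ = t⁻¹ * h ^ i := by
        have e3 : t * (h ^ i)⁻¹ = h ^ i * t := by
          rw [mul_inv_eq_iff_eq_mul, mul_assoc, e1, mul_inv_cancel_left]
        calc (h ^ i)⁻¹ * t⁻¹ = (t * h ^ i)⁻¹ := by rw [_root_.mul_inv_rev]
          _ = t⁻¹ * h ^ i := by rw [e1, _root_.mul_inv_rev, inv_inv]
      have hx' : x = y * d := by rw [hd, mul_inv_cancel_left]
      have hdt : t * d * t⁻¹ = d := by
        rw [Subgroup.mem_center_iff.1 hdc t, mul_inv_cancel_right]
      calc t * x * t⁻¹ = (t * y * t⁻¹) * (t * d * t⁻¹) := by rw [hx']; simp [mul_assoc]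
        _ = (t * h ^ i) * u * ((h ^ i)⁻¹ * t⁻¹) * d := by rw [hdt, hy]; simp [mul_assoc]
        _ = (h ^ i)⁻¹ * (t * u * t⁻¹) * h ^ i * d := by rw [e1, e2]; simp [mul_assoc]
        _ = (h ^ i)⁻¹ * u * ((t * h ^ i) * ((h ^ i)⁻¹ * u * h ^ i)) * d := by rw [r4]; simp [mul_assoc]
        _ = _ := by rw [e1]; simp [mul_assoc]
    obtain ⟨hfin, hbound⟩ := C.card_le (show 0 < N by omega) hzU w fun y hy => by
      obtain ⟨c, hc'⟩ := himg y hy
      have hd : y * (w c)⁻¹ ∈ U := mul_mem hy (inv_mem (hw c))
      refine ⟨c, y * (w c)⁻¹, hd, ?_, by rw [inv_mul_cancel_right]⟩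
      rcases hkerH _ hd (by rw [map_mul, map_inv, hc', hwφ, mul_inv_cancel]) with e | e <;> rw [e]
      · exact one_mem _
      · exact hzc
    refine ⟨hfin, ?_⟩
    haveI := hfin
    rw [Nat.card_eq_fintype_card (α := F)] at hbound
    -- the transfer into the root subgroup kills `z`
    suffices hz1 : z = 1 by
      have hU' : Nat.card U ≤ Fintype.card F := by
        have h' := orb_card (T := (∅ : Finset P)) two_pos hn r0 hc (by simp)
          (by simpa [r2, hz1] using word_mem_first (u := u) (g := h) hdeg ∅)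
        simpa using h'.2.trans (by simpa using hsmall)
      refine hbound.trans ?_
      rw [card_SL_even, ← mul_assoc]
      exact Nat.mul_le_mul (Nat.mul_le_mul hU' le_rfl) le_rfl
    by_contra hz1
    have hsurj : Function.Surjective φ := by
      rw [← MonoidHom.range_eq_top, eq_top_iff,
        ← closure_image_eq_top hg ζ rfl ζ ⟨1, (pow_one ζ).symm⟩, Subgroup.closure_le]
      rintro x (rfl | rfl | rfl)
      · exact ⟨u, hu⟩
      · exact ⟨h, hh⟩
      · exact ⟨t, ht⟩
    have hkφ : 2 ≤ Nat.card φ.ker :=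
      Finite.one_lt_card_iff_nontrivial.2 ⟨⟨⟨z, hzφ⟩, 1, fun e => hz1 (congrArg Subtype.val e)⟩⟩
    have hPge : 2 * Nat.card SL(2, F) ≤ Nat.card P := by
      have := φ.ker.card_mul_index
      rw [Subgroup.index_ker, MonoidHom.range_eq_top.2 hsurj, Subgroup.card_top] at this
      rw [← this]
      exact Nat.mul_le_mul_right _ hkφ
    have hPeq : Nat.card P = 2 * Nat.card SL(2, F) := by
      refine le_antisymm (hbound.trans ?_) hPge
      rw [card_SL_even, ← mul_assoc, ← mul_assoc]
      exact Nat.mul_le_mul (Nat.mul_le_mul hUle le_rfl) le_rfl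
    have hUeq : Nat.card U = 2 * Fintype.card F := by
      refine le_antisymm hUle ?_
      rw [Nat.card_eq_fintype_card (α := F)] at hrange
      rw [← hker]
      exact Nat.mul_le_mul (Finite.one_lt_card_iff_nontrivial.2
        ⟨⟨⟨⟨z, hzU⟩, hzφ⟩, 1, fun e => hz1 (congrArg (fun y : ψ.ker => ((y : U) : P)) e)⟩⟩) hrange
    have hidx : Odd U.index := by
      have h' := U.card_mul_index
      rw [hUeq, hPeq, card_SL_even, mul_assoc 2] at h'
      have h'' := Nat.eq_of_mul_eq_mul_left two_pos h'
      have h''' := Nat.eq_of_mul_eq_mul_left Fintype.card_pos h''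
      rw [h''']
      exact Nat.odd_mul.2 ⟨Nat.odd_iff.2 (by omega), Nat.odd_iff.2 (by omega)⟩
    letI : CommGroup U :=
      { (inferInstance : Group U) with mul_comm := fun a b => Subtype.ext (orb_comm hc a.2 b.2).eq }
    let τ : P →* U := MonoidHom.transfer (MonoidHom.id U)
    have hτz : τ z = ⟨z, hzU⟩ := by
      have e := MonoidHom.transfer_eq_pow (MonoidHom.id U) z fun k g₀ _ => by
        have hzk : z ^ k ∈ Subgroup.center P := pow_mem hzc k
        rw [mul_assoc, ← Subgroup.mem_center_iff.1 hzk g₀, inv_mul_cancel_left]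
      refine e.trans (Subtype.ext ?_)
      obtain ⟨m, hm⟩ := hidx
      show z ^ U.index = z
      rw [hm, pow_succ, pow_mul, pow_two, hzz, one_pow, one_mul]
    have hτu : τ u = 1 := by
      have e1 : ∀ i, τ (cj u h i) = τ u := fun i => by
        rw [cj, map_mul, map_mul, map_inv, mul_comm (τ (h ^ i)), mul_inv_cancel_right]
      have e2 := congrArg τ r1
      rw [e1, map_mul, e1] at e2
      exact (mul_left_cancel (a := τ u) (by rw [mul_one]; exact e2)).symm
    have hτU : ∀ x ∈ U, τ x = 1 := by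
      intro x hx
      have : U ≤ τ.ker := orb_le_of_closed hτu fun y hy => (inferInstance : τ.ker.Normal).conj_mem y hy h
      exact this hx
    exact hz1 (congrArg Subtype.val ((hτz.symm.trans (hτU z hzU) : (⟨z, hzU⟩ : U) = 1)))

theorem present_char_two :
    ∃ rels : Finset (FreeGroup (Fin 3)), rels.card ≤ 5 ∧
      Nonempty (PresentedGroup (↑rels : Set (FreeGroup (Fin 3))) ≃* SL(2, F)) := by
  obtain ⟨e, -, he⟩ := FiniteField.card F 2
  rcases eq_or_ne (e : ℕ) 1 with h1 | h1
  · exact present_two (by rw [he, h1, pow_one])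
  · refine present_even ?_
    rw [he]
    calc 4 = 2 ^ 2 := rfl
      _ ≤ 2 ^ (e : ℕ) := Nat.pow_le_pow_right two_pos (by have := e.pos; omega)

end Cfsg.Lib.Linear.ShortPres
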