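import Cfsg.Agent.Lib.Linear.ShortPres.SLTwoOdd
import Cfsg.Agent.Lib.Linear.ShortPres.SLTwoEven
import Cfsg.Agent.Lib.Linear.PSLSmall

/-!
# Short presentations of `SL₂` and `PSL₂`: the instances in odd characteristic
-/

set_option autoImplicit false

namespace Cfsg.Lib.Linear.ShortPres

open Polynomial Matrix
open scoped MatrixGroups

variable {F : Type*} [Field F] [Fintype F] {p : ℕ} [Fact p.Prime] [CharP F p]

local notation "PSLTwo" => Matrix.ProjectiveSpecialLinearGroup (Fin 2) F

/-- Shared numerical data in odd characteristic. -/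
theorem odd_setup (hp : p ≠ 2) : ∃ (ζ : Fˣ) (D : OddData p), OddSpec ζ D ∧ (∀ x : Fˣ, ∃ i : ℕ, x = ζ ^ i) ∧
    Fintype.card F % 2 = 1 ∧ orderOf ζ = Fintype.card F - 1 ∧ 3 ≤ Fintype.card F ∧
      ((ζ : F) ^ ((Fintype.card F - 1) / 2) = -1) := by
  classical
  obtain ⟨ζ, hζ⟩ := IsCyclic.exists_generator (α := Fˣ)
  have hord : orderOf ζ = Fintype.card F - 1 := by
    rw [orderOf_eq_card_of_forall_mem_zpowers hζ, Nat.card_eq_fintype_card, Fintype.card_units]
  have hgen : ∀ x : Fˣ, ∃ i : ℕ, x = ζ ^ i := fun x => by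
    obtain ⟨i, hi⟩ := (mem_powers_iff_mem_zpowers.2 (hζ x) : x ∈ Submonoid.powers ζ)
    exact ⟨i, hi.symm⟩
  obtain ⟨D, hD⟩ := exists_oddData (p := p) ζ (by rw [orderOf_units, hord]) hp hgen
  have hodd : Fintype.card F % 2 = 1 :=
    FiniteField.odd_card_of_char_ne_two (by rw [ringChar.eq F p]; exact hp)
  have h3 : 3 ≤ Fintype.card F := by have := Fintype.one_lt_card (α := F); omega
  refine ⟨ζ, D, hD, hgen, hodd, hord, h3, ?_⟩
  have h1 : ((ζ : F) ^ ((Fintype.card F - 1) / 2)) * ((ζ : F) ^ ((Fintype.card F - 1) / 2)) = 1 := by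
    rw [← pow_add, show (Fintype.card F - 1) / 2 + (Fintype.card F - 1) / 2 = Fintype.card F - 1 by omega]
    exact FiniteField.pow_card_sub_one_eq_one (ζ : F) ζ.ne_zero
  rcases mul_self_eq_one_iff.1 h1 with h | h
  · exfalso
    have := orderOf_dvd_of_pow_eq_one h
    rw [orderOf_units, hord] at this
    have := Nat.le_of_dvd (by omega) this
    omega
  · exact h

theorem image_gen {M : Type*} [Group M] (π : SL(2, F) →* M) (hsurj : Function.Surjective π) {ζ : Fˣ} {D : OddData p}
    (S : OddSpec ζ D) : Subgroup.closure ({π (xs 1), π (ds ζ), π ts} : Set M) = ⊤ := by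
  set T := Subgroup.closure ({xs 1, ds ζ, ts} : Set SL(2, F))
  have hT : T = ⊤ := by
    have h1 : xs 1 ∈ T := Subgroup.subset_closure (Or.inl rfl)
    have h2 : ds ζ ∈ T := Subgroup.subset_closure (Or.inr (Or.inl rfl))
    refine closure_gens (fun c => ?_) (Subgroup.subset_closure (Or.inr (Or.inr rfl)))
    obtain ⟨P, hP⟩ := S.gens c
    have := word_xs (MonoidHom.id SL(2, F)) (ζ ^ D.k) P
    simp only [MonoidHom.id_apply, hP] at this
    rw [← this]
    refine word_mem_of p _ _ fun m _ => ?_
    have hr : ds (ζ ^ D.k) ∈ T := by rw [ds_pow]; exact pow_mem h2 _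
    exact T.mul_mem (T.mul_mem (pow_mem hr m) h1) (T.inv_mem (pow_mem hr m))
  have h := congrArg (Subgroup.map π) hT
  rw [MonoidHom.map_closure, Subgroup.map_top_of_surjective π hsurj] at h
  simpa [Set.image_insert_eq] using h

theorem present_SL_odd (hp : p ≠ 2) :
    ∃ rels : Finset (FreeGroup (Fin 3)), rels.card ≤ 9 ∧
      Nonempty (PresentedGroup (↑rels : Set (FreeGroup (Fin 3))) ≃* SL(2, F)) := by
  letI := ZMod.algebra F p
  obtain ⟨ζ, D, S, hgen, hodd, hord, h3, hneg⟩ := odd_setup (F := F) (p := p) hp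
  set π := MonoidHom.id SL(2, F)
  set j := (Fintype.card F - 1) / 2 with hj
  obtain ⟨Pv, hPv⟩ := S.gens ((ζ : F) ^ 1)
  obtain ⟨Pw, hPw⟩ := S.gens (-(((ζ ^ 1 : Fˣ)⁻¹ : Fˣ) : F))
  refine Exists.imp (fun rels h => ⟨h.1.trans (by simp [baseRels]), h.2⟩) (present
    (baseRels D ++ [(T0 * T0, H0 ^ j),
      (T0 * word p U0 (H0 ^ D.k) Pv * T0⁻¹,
        word p U0 (H0 ^ D.k) Pw * H0 ^ (Fintype.card F - 2) * T0 * word p U0 (H0 ^ D.k) Pw)])
    (π (xs 1)) (π (ds ζ)) (π ts) ?_ (image_gen π Function.surjective_id S) ?_)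
  · intro e he
    rw [List.mem_append] at he
    rcases he with he | he
    · exact baseRels_sat π S e he
    simp only [List.mem_cons, List.not_mem_nil, or_false] at he
    have hinv : ζ ^ (Fintype.card F - 2) = ζ⁻¹ := by
      refine eq_inv_of_mul_eq_one_left ?_
      rw [← pow_succ, show Fintype.card F - 2 + 1 = Fintype.card F - 1 by omega, ← hord, pow_orderOf_eq_one]
    rcases he with rfl | rfl <;>
      simp only [map_mul, map_inv, map_pow, map_word, FreeGroup.lift_apply_of, Matrix.cons_val_zero,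
        Matrix.cons_val_one, Matrix.cons_val]
    · rw [← map_pow, ← map_mul, ts_sq, ← ds_pow]
      congr 2
      exact Units.ext (by rw [Units.val_pow_eq_pow_val, hneg]; simp)
    · simp only [← map_pow, ← ds_pow, word_xs, hPv, hPw]
      rw [← map_inv, ← map_mul, ← map_mul, pow_one, pow_one, ts_conj_xs, map_mul, map_mul, map_mul, hinv]
  · intro P _ u h t φ hgenP hu hh ht hrels
    have hbase := fun e he => hrels e (List.mem_append_left _ he)
    have r1 := hrels _ (List.mem_append_right _ (List.mem_cons_self))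
    have r2 := hrels _ (List.mem_append_right _ (List.mem_cons_of_mem _ (List.mem_cons_self)))
    simp only [map_mul, map_inv, map_pow, map_word, FreeGroup.lift_apply_of, Matrix.cons_val_zero,
      Matrix.cons_val_one, Matrix.cons_val] at r1 r2
    have hj2 : 2 * j = Fintype.card F - 1 := by omega
    obtain ⟨hfin, hb⟩ := odd_bound π S (fun c hc => xs_inj (hc.trans xs_zero.symm)) hgen hodd φ hu hh hbase
      hgenP j hj2 (2 * j) (by omega) id (by rw [r1]; exact pow_mem (Subgroup.mem_zpowers h) j) 1 odd_one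
      (word p u (h ^ D.k) Pv) (word_mem_orb p _ _ _)
      (by rw [image_word π φ (ζ ^ D.k) hu (by rw [map_pow, hh, ← map_pow, ds_pow]), hPv])
      ⟨_, word_mem_orb p _ _ _, _, pow_mem (Subgroup.mem_zpowers h) _, _, word_mem_orb p _ _ _, r2⟩
    refine ⟨hfin, hb.trans (le_of_eq ?_)⟩
    rw [Cfsg.Lib.Linear.Two.card_SL_two, hj2, mul_assoc]
    congr 1
    have := Fintype.card_pos (α := F)
    zify [Nat.one_le_pow 2 _ this, this]
    ring

theorem center_mk_eq_one {g : SL(2, F)} :
    (QuotientGroup.mk' (Subgroup.center SL(2, F)) g : PSLTwo) = 1 ↔ g ∈ Subgroup.center SL(2, F) :=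
  QuotientGroup.eq_one_iff g

theorem present_PSL_odd (hp : p ≠ 2) :
    ∃ rels : Finset (FreeGroup (Fin 3)), rels.card ≤ 9 ∧
      Nonempty (PresentedGroup (↑rels : Set (FreeGroup (Fin 3))) ≃* PSLTwo) := by
  letI := ZMod.algebra F p
  obtain ⟨ζ, D, S, hgen, hodd, hord, h3, hneg⟩ := odd_setup (F := F) (p := p) hp
  haveI : Finite PSLTwo := Quotient.finite _
  set π : SL(2, F) →* PSLTwo := QuotientGroup.mk' (Subgroup.center SL(2, F))
  have hsurj : Function.Surjective π := QuotientGroup.mk'_surjective _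
  have hπ : ∀ c, π (xs c) = 1 → c = 0 := fun c hc => center_eq_of_xs (center_mk_eq_one.1 hc)
  set j := (Fintype.card F - 1) / 2 with hj
  have hj2 : 2 * j = Fintype.card F - 1 := by omega
  have hζj : ζ ^ j = -1 := Units.ext (by rw [Units.val_pow_eq_pow_val, hneg]; simp)
  have hzc : π (ds (-1 : Fˣ)) = 1 := center_mk_eq_one.2 (by
    refine Matrix.SpecialLinearGroup.mem_center_iff.2 ⟨-1, by simp, ?_⟩
    rw [ds_coe]
    ext a b; fin_cases a <;> fin_cases b <;> simp [Matrix.scalar_apply])
  have hts : π ts * π ts = 1 := by rw [← map_mul, ts_sq, hzc]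
  have hhj : π (ds ζ) ^ j = 1 := by rw [← map_pow, ← ds_pow, hζj, hzc]
  have hcard : Fintype.card F * j * (1 + Fintype.card F) ≤ Nat.card PSLTwo := by
    have h' := Cfsg.Lib.Linear.Two.card_PSL_two (F := F)
    rw [Nat.gcd_eq_left (show 2 ∣ Fintype.card F - 1 by omega)] at h'
    have h'' : Fintype.card F ^ 2 - 1 = 2 * j * (1 + Fintype.card F) := by
      rw [hj2]
      have := Fintype.card_pos (α := F)
      zify [Nat.one_le_pow 2 _ this, this]
      ring
    rw [h''] at h'
    nlinarith
  rcases Nat.even_or_odd j with ⟨i, hi⟩ | hjodd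
  · obtain ⟨Pv, hPv⟩ := S.gens ((ζ : F) ^ 1)
    obtain ⟨Pw, hPw⟩ := S.gens (-(((ζ ^ 1 : Fˣ)⁻¹ : Fˣ) : F))
    refine Exists.imp (fun rels h => ⟨h.1.trans (by simp [baseRels]), h.2⟩) (present
      (baseRels D ++ [(T0 * T0, 1),
        (T0 * word p U0 (H0 ^ D.k) Pv * T0⁻¹,
          word p U0 (H0 ^ D.k) Pw * H0 ^ (Fintype.card F - 2) * T0 * word p U0 (H0 ^ D.k) Pw)])
      (π (xs 1)) (π (ds ζ)) (π ts) ?_ (image_gen π hsurj S) ?_)
    · intro e he
      rw [List.mem_append] at he
      rcases he with he | he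
      · exact baseRels_sat π S e he
      simp only [List.mem_cons, List.not_mem_nil, or_false] at he
      have hinv : ζ ^ (Fintype.card F - 2) = ζ⁻¹ := by
        refine eq_inv_of_mul_eq_one_left ?_
        rw [← pow_succ, show Fintype.card F - 2 + 1 = Fintype.card F - 1 by omega, ← hord, pow_orderOf_eq_one]
      rcases he with rfl | rfl <;>
        simp only [map_mul, map_inv, map_pow, map_one, map_word, FreeGroup.lift_apply_of, Matrix.cons_val_zero,
          Matrix.cons_val_one, Matrix.cons_val]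
      · exact hts
      · simp only [← map_pow, ← ds_pow, word_xs, hPv, hPw]
        rw [← map_inv, ← map_mul, ← map_mul, pow_one, pow_one, ts_conj_xs, map_mul, map_mul, map_mul, hinv]
    · intro P _ u h t φ hgenP hu hh ht hrels
      have hbase := fun e he => hrels e (List.mem_append_left _ he)
      have r1 := hrels _ (List.mem_append_right _ (List.mem_cons_self))
      have r2 := hrels _ (List.mem_append_right _ (List.mem_cons_of_mem _ (List.mem_cons_self)))
      simp only [map_mul, map_inv, map_pow, map_one, map_word, FreeGroup.lift_apply_of, Matrix.cons_val_zero,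
        Matrix.cons_val_one, Matrix.cons_val] at r1 r2
      obtain ⟨hup, hth, htu, -, -, hnorm, hinj⟩ := base_facts π S hπ φ hu hh hbase
      have hgφ : φ (h ^ D.k) = π (ds (ζ ^ D.k)) := by rw [map_pow, hh, ← map_pow, ds_pow]
      have hN : h ^ (2 * j) = 1 → h ^ j = 1 := by
        intro hz2
        set i0 := h ^ i with hi0
        have hii : i0 * i0 = h ^ j := by rw [hi0, ← pow_add, ← hi]
        have hconj : i0 * u * i0⁻¹ = u⁻¹ := by
          refine hinj _ ((Subgroup.mem_normalizer_iff.1 (pow_mem hnorm i) u).1 (self_mem u _)) _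
            (inv_mem (self_mem u _)) ?_
          rw [map_mul, map_mul, map_inv, map_pow, hh, map_inv, hu, ← map_pow, ← ds_pow, ← map_inv, ← map_mul,
            ← map_mul, ds_conj, Units.val_pow_eq_pow_val, ← pow_mul, mul_two, ← hi, hneg, ← map_inv, ← xs_neg,
            mul_one]
        have hconj' : i0⁻¹ * u * i0 = u⁻¹ := by
          have h'' := congrArg (fun x => i0⁻¹ * x⁻¹ * i0) hconj
          simpa [mul_assoc] using h''.symm
        have hflip : t * i0 = i0⁻¹ * t := by
          rw [← mul_inv_eq_iff_eq_mul, hi0, ← conj_pow, hth, inv_pow]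
        have hflip' : i0 * t = t * i0⁻¹ := by rw [eq_mul_inv_iff_mul_eq, mul_assoc, hflip, mul_inv_cancel_left]
        have e2 : t⁻¹ * i0⁻¹ = i0 * t⁻¹ := by
          have := congrArg (·⁻¹) hflip'
          simpa using this
        have hL : i0 * (t * u * t⁻¹) * i0⁻¹ = (t * u * t⁻¹)⁻¹ := by
          calc i0 * (t * u * t⁻¹) * i0⁻¹ = (i0 * t) * u * (t⁻¹ * i0⁻¹) := by simp [mul_assoc]
            _ = t * (i0⁻¹ * u * i0) * t⁻¹ := by rw [hflip', e2]; simp [mul_assoc]
            _ = _ := by rw [hconj']; simp [mul_assoc]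
        rw [htu] at hL
        have hR : i0 * (u⁻¹ * t * u⁻¹) * i0⁻¹ = u * h ^ j * t * u := by
          have hcu : i0 * u⁻¹ * i0⁻¹ = u := by
            have := congrArg (·⁻¹) hconj
            simpa [mul_assoc] using this
          calc i0 * (u⁻¹ * t * u⁻¹) * i0⁻¹ = (i0 * u⁻¹ * i0⁻¹) * (i0 * t * i0⁻¹) * (i0 * u⁻¹ * i0⁻¹) := by
                simp [mul_assoc]
            _ = _ := by
              have : i0 * t * i0⁻¹ = h ^ j * t := by
                calc i0 * t * i0⁻¹ = i0 * (t * i0⁻¹) := by simp [mul_assoc]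
                  _ = i0 * (i0 * t) := by rw [hflip']
                  _ = h ^ j * t := by rw [← mul_assoc, hii]
              rw [hcu, this]; simp [mul_assoc]
        rw [hR] at hL
        have : h ^ j * t = t⁻¹ := by
          have h'' := congrArg (fun x => u⁻¹ * x * u⁻¹) hL
          simpa [mul_assoc] using h''
        have htinv : t⁻¹ = t := inv_eq_of_mul_eq_one_left r1
        rw [htinv] at this
        exact mul_right_cancel (this.trans (one_mul t).symm)
      obtain ⟨hfin, hb⟩ := odd_bound π S hπ hgen hodd φ hu hh hbase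
        hgenP j hj2 j (by omega) hN (by rw [r1]; exact one_mem _) 1 odd_one
        (word p u (h ^ D.k) Pv) (word_mem_orb p _ _ _) (by rw [image_word π φ (ζ ^ D.k) hu hgφ, hPv])
        ⟨_, word_mem_orb p _ _ _, _, pow_mem (Subgroup.mem_zpowers h) _, _, word_mem_orb p _ _ _, r2⟩
      exact ⟨hfin, hb.trans hcard⟩
  · refine Exists.imp (fun rels h => ⟨h.1.trans (by simp [baseRels]), h.2⟩) (present
      (baseRels D ++ [(T0 * T0, 1), (H0 ^ j, 1)]) (π (xs 1)) (π (ds ζ)) (π ts) ?_ (image_gen π hsurj S) ?_)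
    · intro e he
      rw [List.mem_append] at he
      rcases he with he | he
      · exact baseRels_sat π S e he
      simp only [List.mem_cons, List.not_mem_nil, or_false] at he
      rcases he with rfl | rfl <;>
        simp only [map_mul, map_pow, map_one, FreeGroup.lift_apply_of, Matrix.cons_val_zero,
          Matrix.cons_val_one, Matrix.cons_val]
      · exact hts
      · exact hhj
    · intro P _ u h t φ hgenP hu hh ht hrels
      have hbase := fun e he => hrels e (List.mem_append_left _ he)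
      have r1 := hrels _ (List.mem_append_right _ (List.mem_cons_self))
      have r2 := hrels _ (List.mem_append_right _ (List.mem_cons_of_mem _ (List.mem_cons_self)))
      simp only [map_mul, map_pow, map_one, FreeGroup.lift_apply_of, Matrix.cons_val_zero,
        Matrix.cons_val_one, Matrix.cons_val] at r1 r2
      obtain ⟨hup, hth, htu, -, -, hnorm, hinj⟩ := base_facts π S hπ φ hu hh hbase
      have htinv : t⁻¹ = t := inv_eq_of_mul_eq_one_left r1
      obtain ⟨hfin, hb⟩ := odd_bound π S hπ hgen hodd φ hu hh hbase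
        hgenP j hj2 j (by omega) (fun _ => r2) (by rw [r1]; exact one_mem _) j hjodd
        u⁻¹ (inv_mem (self_mem u _))
        (by rw [map_inv, hu, hneg, ← map_inv, ← xs_neg])
        ⟨u, self_mem u _, 1, one_mem _, u, self_mem u _, by
          have := congrArg (·⁻¹) htu
          simp only [_root_.mul_inv_rev, inv_inv, htinv] at this
          simpa [mul_assoc, htinv] using this⟩
      exact ⟨hfin, hb.trans hcard⟩

end Cfsg.Lib.Linear.ShortPres
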