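import Cfsg.Agent.Lib.Linear.ShortPres.SLThree.Main

/-!
# Groups with presentations having boundedly many relators
-/

set_option autoImplicit false

namespace Cfsg.Lib.Linear.ShortPres

/-- `M` has a finite presentation with at most `r` relators. -/
def Bdd (M : Type*) [Group M] (r : ℕ) : Prop :=
  ∃ (k : ℕ) (rels : Finset (FreeGroup (Fin k))), rels.card ≤ r ∧
    Nonempty (PresentedGroup (↑rels : Set (FreeGroup (Fin k))) ≃* M)

theorem Bdd.of_equiv {M N : Type*} [Group M] [Group N] {r : ℕ} (h : Bdd M r) (e : M ≃* N) : Bdd N r := by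
  obtain ⟨k, R, hR, ⟨f⟩⟩ := h
  exact ⟨k, R, hR, ⟨f.trans e⟩⟩

theorem Bdd.mono {M : Type*} [Group M] {r s : ℕ} (h : Bdd M r) (hrs : r ≤ s) : Bdd M s := by
  obtain ⟨k, R, hR, he⟩ := h
  exact ⟨k, R, hR.trans hrs, he⟩

/-- The trivial group and finite cyclic groups. -/
theorem Bdd.of_gen_one {M : Type*} [Group M] [Finite M] (z : M) (hz : Subgroup.closure ({z} : Set M) = ⊤) :
    ∃ rels : Finset (FreeGroup (Fin 1)), rels.card ≤ 1 ∧
      Nonempty (PresentedGroup (↑rels : Set (FreeGroup (Fin 1))) ≃* M) := by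
  have hcard : orderOf z = Nat.card M := by
    rw [← Nat.card_zpowers, Subgroup.zpowers_eq_closure, hz, Subgroup.card_top]
  obtain ⟨R, hR, he⟩ := Three.present_fin [((FreeGroup.of (0 : Fin 1)) ^ orderOf z, 1)] (fun _ => z)
    (fun e he => by
      rw [List.mem_singleton] at he
      subst he
      simp [pow_orderOf_eq_one])
    (by rw [Set.range_const, hz])
    (fun P _ o φ ho _ hr => by
      have h0 := hr _ (List.mem_singleton.2 rfl)
      simp only [map_pow, map_one, FreeGroup.lift_apply_of] at h0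
      have htop : Subgroup.zpowers (o 0) = ⊤ := by
        rw [eq_top_iff, ← ho, Subgroup.closure_le]
        rintro _ ⟨i, rfl⟩
        rw [Subsingleton.elim i 0]
        exact Subgroup.mem_zpowers _
      have hfo : IsOfFinOrder (o 0) := isOfFinOrder_iff_pow_eq_one.2 ⟨_, orderOf_pos z, h0⟩
      have hc : Nat.card P = orderOf (o 0) := by
        rw [← Nat.card_zpowers, htop, Subgroup.card_top]
      refine ⟨Nat.finite_of_card_ne_zero (by rw [hc]; exact (orderOf_pos_iff.2 hfo).ne'), ?_⟩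
      rw [hc, ← hcard]
      exact Nat.le_of_dvd (orderOf_pos z) (orderOf_dvd_of_pow_eq_one h0))
  exact ⟨R, hR.trans (by simp), he⟩

theorem Bdd.of_gen {M : Type*} [Group M] [Finite M] (z : M) (hz : Subgroup.closure ({z} : Set M) = ⊤) : Bdd M 1 :=
  ⟨1, Bdd.of_gen_one z hz⟩

/-- `M` has a presentation with exactly `k` generators and at most `r` relators. -/
def BddG (M : Type*) [Group M] (k r : ℕ) : Prop :=
  ∃ rels : Finset (FreeGroup (Fin k)), rels.card ≤ r ∧
    Nonempty (PresentedGroup (↑rels : Set (FreeGroup (Fin k))) ≃* M)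

theorem BddG.bdd {M : Type*} [Group M] {k r : ℕ} (h : BddG M k r) : Bdd M r := ⟨k, h⟩

theorem BddG.of_equiv {M N : Type*} [Group M] [Group N] {k r : ℕ} (h : BddG M k r) (e : M ≃* N) : BddG N k r := by
  obtain ⟨R, hR, ⟨f⟩⟩ := h
  exact ⟨R, hR, ⟨f.trans e⟩⟩

theorem BddG.mono {M : Type*} [Group M] {k r s : ℕ} (h : BddG M k r) (hrs : r ≤ s) : BddG M k s := by
  obtain ⟨R, hR, he⟩ := h
  exact ⟨R, hR.trans hrs, he⟩

/-- Two presented pieces and some linking relations present the group they generate. -/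
theorem BddG.combine {C₁ C₂ : Type*} [Group C₁] [Group C₂] {k₁ k₂ r₁ r₂ : ℕ} (h₁ : BddG C₁ k₁ r₁)
    (h₂ : BddG C₂ k₂ r₂)
    {M : Type*} [Group M] [Finite M] (ι₁ : C₁ →* M) (ι₂ : C₂ →* M)
    (hgen : Subgroup.closure (Set.range ι₁ ∪ Set.range ι₂) = ⊤)
    (L : List (FreeGroup (C₁ ⊕ C₂) × FreeGroup (C₁ ⊕ C₂)))
    (hL : ∀ e ∈ L, FreeGroup.lift (Sum.elim ι₁ ι₂) e.1 = FreeGroup.lift (Sum.elim ι₁ ι₂) e.2)
    (hbound : ∀ (G : Type) [Group G] (A : C₁ →* G) (B : C₂ →* G),
      Subgroup.closure (Set.range A ∪ Set.range B) = ⊤ →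
      (∀ e ∈ L, FreeGroup.lift (Sum.elim A B) e.1 = FreeGroup.lift (Sum.elim A B) e.2) →
      Finite G ∧ Nat.card G ≤ Nat.card M) :
    BddG M (k₁ + k₂) (r₁ + r₂ + L.length) := by
  classical
  obtain ⟨R₁, hR₁, ⟨e₁⟩⟩ := h₁
  obtain ⟨R₂, hR₂, ⟨e₂⟩⟩ := h₂
  have hw : ∀ {k : ℕ} {R : Finset (FreeGroup (Fin k))} {C : Type _} [Group C]
      (e : PresentedGroup (↑R : Set (FreeGroup (Fin k))) ≃* C) (c : C),
      ∃ w, e (PresentedGroup.mk _ w) = c := fun e c => by
    obtain ⟨w, hw⟩ := PresentedGroup.mk_surjective _ (e.symm c)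
    exact ⟨w, by rw [hw, MulEquiv.apply_symm_apply]⟩
  choose w₁ hw₁ using fun c => hw e₁ c
  choose w₂ hw₂ using fun c : C₂ => (show ∃ w, e₂ (PresentedGroup.mk _ w) = c by
    obtain ⟨w, hw⟩ := PresentedGroup.mk_surjective _ (e₂.symm c)
    exact ⟨w, by rw [hw, MulEquiv.apply_symm_apply]⟩)
  let J₁ : FreeGroup (Fin k₁) →* FreeGroup (Fin (k₁ + k₂)) := FreeGroup.lift fun i => FreeGroup.of (Fin.castAdd k₂ i)
  let J₂ : FreeGroup (Fin k₂) →* FreeGroup (Fin (k₁ + k₂)) := FreeGroup.lift fun i => FreeGroup.of (Fin.natAdd k₁ i)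
  let σ : FreeGroup (C₁ ⊕ C₂) →* FreeGroup (Fin (k₁ + k₂)) :=
    FreeGroup.lift (Sum.elim (fun c => J₁ (w₁ c)) (fun c => J₂ (w₂ c)))
  set E : List (FreeGroup (Fin (k₁ + k₂)) × FreeGroup (Fin (k₁ + k₂))) :=
    (R₁.toList.map fun r => (J₁ r, 1)) ++ (R₂.toList.map fun r => (J₂ r, 1)) ++ L.map (fun e => (σ e.1, σ e.2))
  let v : Fin (k₁ + k₂) → M := Fin.append (fun i => ι₁ (e₁ (PresentedGroup.of i))) (fun i => ι₂ (e₂ (PresentedGroup.of i)))
  have hv₁ : (FreeGroup.lift v).comp J₁ = (ι₁.comp e₁.toMonoidHom).comp (PresentedGroup.mk _) :=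
    FreeGroup.ext_hom _ _ fun i => by simp [J₁, v, PresentedGroup.of]
  have hv₂ : (FreeGroup.lift v).comp J₂ = (ι₂.comp e₂.toMonoidHom).comp (PresentedGroup.mk _) :=
    FreeGroup.ext_hom _ _ fun i => by simp [J₂, v, PresentedGroup.of]
  have hσ : (FreeGroup.lift v).comp σ = FreeGroup.lift (Sum.elim ι₁ ι₂) :=
    FreeGroup.ext_hom _ _ fun c => by
      rcases c with c | c <;>
        simp only [σ, MonoidHom.comp_apply, FreeGroup.lift_apply_of, Sum.elim_inl, Sum.elim_inr]
      · rw [← MonoidHom.comp_apply, hv₁]; simp [hw₁]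
      · rw [← MonoidHom.comp_apply, hv₂]; simp [hw₂]
  have hlen : E.length ≤ r₁ + r₂ + L.length := by
    simp only [E, List.length_append, List.length_map, Finset.length_toList]
    omega
  refine Exists.imp (fun R hR => ⟨hR.1.trans hlen, hR.2⟩) (Three.present_fin E v ?_ ?_ ?_)
  · intro e he
    simp only [E, List.mem_append, List.mem_map, Finset.mem_toList] at he
    rcases he with (⟨r, hr, rfl⟩ | ⟨r, hr, rfl⟩) | ⟨e', he', rfl⟩
    · rw [← MonoidHom.comp_apply, hv₁, MonoidHom.comp_apply, PresentedGroup.one_of_mem (Finset.mem_coe.2 hr),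
        map_one, map_one]
    · rw [← MonoidHom.comp_apply, hv₂, MonoidHom.comp_apply, PresentedGroup.one_of_mem (Finset.mem_coe.2 hr),
        map_one, map_one]
    · rw [← MonoidHom.comp_apply, ← MonoidHom.comp_apply, hσ]
      exact hL e' he'
  · rw [← FreeGroup.range_lift_eq_closure, eq_top_iff, ← hgen, Subgroup.closure_le]
    rintro _ (⟨c, rfl⟩ | ⟨c, rfl⟩)
    · exact ⟨J₁ (w₁ c), by rw [← MonoidHom.comp_apply, hv₁]; simp [hw₁]⟩
    · exact ⟨J₂ (w₂ c), by rw [← MonoidHom.comp_apply, hv₂]; simp [hw₂]⟩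
  · intro P _ o _ ho _ hr
    have k₁' : ∀ r ∈ (↑R₁ : Set (FreeGroup (Fin k₁))), FreeGroup.lift (fun i => o (Fin.castAdd k₂ i)) r = 1 :=
      fun r hr' => by
        have h := hr (J₁ r, 1) (List.mem_append_left _ (List.mem_append_left _
          (List.mem_map.2 ⟨r, Finset.mem_toList.2 hr', rfl⟩)))
        rw [map_one] at h
        rw [← h, ← MonoidHom.comp_apply]
        congr 1
        exact FreeGroup.ext_hom _ _ fun i => by simp [J₁]
    have k₂' : ∀ r ∈ (↑R₂ : Set (FreeGroup (Fin k₂))), FreeGroup.lift (fun i => o (Fin.natAdd k₁ i)) r = 1 :=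
      fun r hr' => by
        have h := hr (J₂ r, 1) (List.mem_append_left _ (List.mem_append_right _
          (List.mem_map.2 ⟨r, Finset.mem_toList.2 hr', rfl⟩)))
        rw [map_one] at h
        rw [← h, ← MonoidHom.comp_apply]
        congr 1
        exact FreeGroup.ext_hom _ _ fun i => by simp [J₂]
    set A : C₁ →* P := (PresentedGroup.toGroup k₁').comp e₁.symm.toMonoidHom
    set B : C₂ →* P := (PresentedGroup.toGroup k₂').comp e₂.symm.toMonoidHom
    have hA : (FreeGroup.lift o).comp J₁ = (A.comp e₁.toMonoidHom).comp (PresentedGroup.mk _) :=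
      FreeGroup.ext_hom _ _ fun i => by
        simp only [MonoidHom.comp_apply, J₁, A, FreeGroup.lift_apply_of, MulEquiv.coe_toMonoidHom,
          MulEquiv.symm_apply_apply]
        exact (PresentedGroup.toGroup.of k₁').symm
    have hB : (FreeGroup.lift o).comp J₂ = (B.comp e₂.toMonoidHom).comp (PresentedGroup.mk _) :=
      FreeGroup.ext_hom _ _ fun i => by
        simp only [MonoidHom.comp_apply, J₂, B, FreeGroup.lift_apply_of, MulEquiv.coe_toMonoidHom,
          MulEquiv.symm_apply_apply]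
        exact (PresentedGroup.toGroup.of k₂').symm
    have hσP : (FreeGroup.lift o).comp σ = FreeGroup.lift (Sum.elim A B) :=
      FreeGroup.ext_hom _ _ fun c => by
        rcases c with c | c <;>
          simp only [σ, MonoidHom.comp_apply, FreeGroup.lift_apply_of, Sum.elim_inl, Sum.elim_inr]
        · rw [← MonoidHom.comp_apply, hA]; simp [hw₁]
        · rw [← MonoidHom.comp_apply, hB]; simp [hw₂]
    refine hbound P A B ?_ fun e he => ?_
    · rw [eq_top_iff, ← ho, Subgroup.closure_le]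
      rintro _ ⟨i, rfl⟩
      refine Subgroup.subset_closure ?_
      induction i using Fin.addCases with
      | left j =>
        refine Or.inl ⟨e₁ (PresentedGroup.of j), ?_⟩
        simp only [A, MonoidHom.comp_apply, MulEquiv.coe_toMonoidHom, MulEquiv.symm_apply_apply]
        exact PresentedGroup.toGroup.of k₁'
      | right j =>
        refine Or.inr ⟨e₂ (PresentedGroup.of j), ?_⟩
        simp only [B, MonoidHom.comp_apply, MulEquiv.coe_toMonoidHom, MulEquiv.symm_apply_apply]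
        exact PresentedGroup.toGroup.of k₂'
    · rw [← hσP]
      exact hr (σ e.1, σ e.2) (List.mem_append_right _ (List.mem_map.2 ⟨e, he, rfl⟩))

/-- Two presented pieces and some linking relations present the group they generate. -/
theorem Bdd.combine {C₁ C₂ : Type*} [Group C₁] [Group C₂] {r₁ r₂ : ℕ} (h₁ : Bdd C₁ r₁) (h₂ : Bdd C₂ r₂)
    {M : Type*} [Group M] [Finite M] (ι₁ : C₁ →* M) (ι₂ : C₂ →* M)
    (hgen : Subgroup.closure (Set.range ι₁ ∪ Set.range ι₂) = ⊤)
    (L : List (FreeGroup (C₁ ⊕ C₂) × FreeGroup (C₁ ⊕ C₂)))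
    (hL : ∀ e ∈ L, FreeGroup.lift (Sum.elim ι₁ ι₂) e.1 = FreeGroup.lift (Sum.elim ι₁ ι₂) e.2)
    (hbound : ∀ (G : Type) [Group G] (A : C₁ →* G) (B : C₂ →* G),
      Subgroup.closure (Set.range A ∪ Set.range B) = ⊤ →
      (∀ e ∈ L, FreeGroup.lift (Sum.elim A B) e.1 = FreeGroup.lift (Sum.elim A B) e.2) →
      Finite G ∧ Nat.card G ≤ Nat.card M) :
    Bdd M (r₁ + r₂ + L.length) := by
  obtain ⟨k₁, h₁⟩ := h₁
  obtain ⟨k₂, h₂⟩ := h₂
  exact ⟨_, BddG.combine h₁ h₂ ι₁ ι₂ hgen L hL hbound⟩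

/-- On a given pair of generators two more relators suffice. -/
theorem Bdd.two_generated {M : Type*} [Group M] {r : ℕ} (h : Bdd M r) (a b : M)
    (hab : Subgroup.closure ({a, b} : Set M) = ⊤) :
    ∃ rels : Finset (FreeGroup (Fin 2)), rels.card ≤ r + 2 ∧
      ∃ e : PresentedGroup (↑rels : Set (FreeGroup (Fin 2))) ≃* M,
        e (PresentedGroup.of 0) = a ∧ e (PresentedGroup.of 1) = b := by
  classical
  obtain ⟨k, R, hR, ⟨f⟩⟩ := h
  set T := FreeGroup.lift (![a, b] : Fin 2 → M) with hT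
  have hTs : Function.Surjective T := by
    rw [← MonoidHom.range_eq_top, FreeGroup.range_lift_eq_closure, eq_top_iff, ← hab]
    refine Subgroup.closure_mono ?_
    rintro x (rfl | rfl)
    · exact ⟨0, rfl⟩
    · exact ⟨1, rfl⟩
  choose u hu using fun i : Fin k => hTs (f (PresentedGroup.of i))
  obtain ⟨α, hα⟩ := PresentedGroup.mk_surjective _ (f.symm a)
  obtain ⟨β, hβ⟩ := PresentedGroup.mk_surjective _ (f.symm b)
  let U : FreeGroup (Fin k) →* FreeGroup (Fin 2) := FreeGroup.lift u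
  have hTU : T.comp U = f.toMonoidHom.comp (PresentedGroup.mk _) :=
    FreeGroup.ext_hom _ _ fun i => by simp [U, hu, PresentedGroup.of]
  set S : Finset (FreeGroup (Fin 2)) :=
    R.image U ∪ {FreeGroup.of 0 * (U α)⁻¹, FreeGroup.of 1 * (U β)⁻¹} with hS
  have hker : ∀ s ∈ (↑S : Set (FreeGroup (Fin 2))), T s = 1 := by
    intro s hs
    simp only [hS, Finset.coe_union, Finset.coe_image, Finset.coe_insert, Finset.coe_singleton, Set.mem_union,
      Set.mem_image, Set.mem_insert_iff, Set.mem_singleton_iff] at hs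
    rcases hs with ⟨x, hx, rfl⟩ | rfl | rfl
    · rw [← MonoidHom.comp_apply, hTU, MonoidHom.comp_apply, PresentedGroup.one_of_mem hx, map_one]
    · rw [map_mul, map_inv, ← MonoidHom.comp_apply T U, hTU, MonoidHom.comp_apply, hα]
      simp [hT]
    · rw [map_mul, map_inv, ← MonoidHom.comp_apply T U, hTU, MonoidHom.comp_apply, hβ]
      simp [hT]
  let q := PresentedGroup.mk (↑S : Set (FreeGroup (Fin 2)))
  have hq : ∀ x ∈ (↑R : Set (FreeGroup (Fin k))), FreeGroup.lift (fun i => q (u i)) x = 1 := by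
    intro x hx
    have e : FreeGroup.lift (fun i => q (u i)) = q.comp U := FreeGroup.ext_hom _ _ fun i => by simp [U]
    rw [e, MonoidHom.comp_apply]
    exact PresentedGroup.one_of_mem (by
      rw [Finset.mem_coe, hS]; exact Finset.mem_union_left _ (Finset.mem_image_of_mem _ hx))
  let Ψ : PresentedGroup (↑S : Set (FreeGroup (Fin 2))) →* M := PresentedGroup.toGroup hker
  let Φ : M →* PresentedGroup (↑S : Set (FreeGroup (Fin 2))) := (PresentedGroup.toGroup hq).comp f.symm.toMonoidHom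
  have hΦmk : (PresentedGroup.toGroup hq).comp (PresentedGroup.mk _) = q.comp U :=
    FreeGroup.ext_hom _ _ fun i => by
      simp only [MonoidHom.comp_apply, U, FreeGroup.lift_apply_of]
      exact PresentedGroup.toGroup.of hq
  have h1 : Φ.comp Ψ = MonoidHom.id _ := PresentedGroup.ext fun i => by
    simp only [Φ, Ψ, MonoidHom.comp_apply, PresentedGroup.toGroup.of, MulEquiv.coe_toMonoidHom, MonoidHom.id_apply]
    have hmem : ∀ (j : Fin 2) (γ : FreeGroup (Fin k)), FreeGroup.of j * (U γ)⁻¹ ∈ S →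
        q (U γ) = PresentedGroup.of j := fun j γ hj => by
      have := PresentedGroup.one_of_mem (rels := (↑S : Set (FreeGroup (Fin 2)))) (Finset.mem_coe.2 hj)
      rw [map_mul, map_inv, mul_inv_eq_one] at this
      exact this.symm
    fin_cases i
    · show PresentedGroup.toGroup hq (f.symm (![a, b] 0)) = _
      rw [Matrix.cons_val_zero, ← hα, ← MonoidHom.comp_apply, hΦmk]
      exact hmem 0 α (by simp [hS])
    · show PresentedGroup.toGroup hq (f.symm (![a, b] 1)) = _
      rw [Matrix.cons_val_one, Matrix.cons_val_fin_one, ← hβ, ← MonoidHom.comp_apply, hΦmk]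
      exact hmem 1 β (by simp [hS])
  have h2 : Ψ.comp Φ = MonoidHom.id _ := by
    have h2' : Ψ.comp (PresentedGroup.toGroup hq) = f.toMonoidHom := PresentedGroup.ext fun i => by
      simp only [MonoidHom.comp_apply, PresentedGroup.toGroup.of, Ψ, q]
      exact hu i
    refine MonoidHom.ext fun m => ?_
    simp only [Φ, MonoidHom.comp_apply, MulEquiv.coe_toMonoidHom, MonoidHom.id_apply]
    rw [← MonoidHom.comp_apply, h2']
    exact f.apply_symm_apply m
  refine ⟨S, ?_, MonoidHom.toMulEquiv Ψ Φ h1 h2, PresentedGroup.toGroup.of hker, PresentedGroup.toGroup.of hker⟩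
  refine (Finset.card_union_le _ _).trans (Nat.add_le_add (Finset.card_image_le.trans hR) ?_)
  exact Finset.card_le_two

end Cfsg.Lib.Linear.ShortPres
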