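import Mathlib

/-!
# Short presentations: a two-cell covering bound
-/

set_option autoImplicit false

namespace Cfsg.Lib.Linear.ShortPres

variable {G : Type*} [Group G]

structure Cells (U : Subgroup G) (u h t : G) : Prop where
  gen : Subgroup.closure ({u, h, t} : Set G) = ⊤
  mem : u ∈ U
  norm : h ∈ Subgroup.normalizer (U : Set G)
  inv : t * h * t⁻¹ = h⁻¹
  sq : t * t ∈ Subgroup.zpowers h
  cell : ∀ x ∈ U, x ∈ Subgroup.zpowers h ∨
    ∃ a ∈ U, ∃ e ∈ Subgroup.zpowers h, ∃ b ∈ U, t * x * t⁻¹ = a * e * t * b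

variable {U : Subgroup G} {u h t : G} (C : Cells U u h t)
include C

theorem Cells.conj_mem {e x : G} (he : e ∈ Subgroup.zpowers h) (hx : x ∈ U) : e * x * e⁻¹ ∈ U :=
  (Subgroup.mem_normalizer_iff.1 ((Subgroup.zpowers_le.2 C.norm) he) x).1 hx

theorem Cells.conj_mem' {e x : G} (he : e ∈ Subgroup.zpowers h) (hx : x ∈ U) : e⁻¹ * x * e ∈ U := by
  simpa using C.conj_mem (inv_mem he) hx

theorem Cells.t_zpow (e : G) (he : e ∈ Subgroup.zpowers h) : t * e * t⁻¹ = e⁻¹ := by
  obtain ⟨n, rfl⟩ := Subgroup.mem_zpowers_iff.1 he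
  show MulAut.conj t (h ^ n) = (h ^ n)⁻¹
  rw [map_zpow, MulAut.conj_apply, C.inv, inv_zpow]

theorem Cells.covered (g : G) :
    (∃ x ∈ U, ∃ e ∈ Subgroup.zpowers h, g = x * e) ∨
      ∃ x ∈ U, ∃ e ∈ Subgroup.zpowers h, ∃ y ∈ U, g = x * e * t * y := by
  let P : G → Prop := fun g => (∃ x ∈ U, ∃ e ∈ Subgroup.zpowers h, g = x * e) ∨
      ∃ x ∈ U, ∃ e ∈ Subgroup.zpowers h, ∃ y ∈ U, g = x * e * t * y
  have hleftU : ∀ z ∈ U, ∀ g, P g → P (z * g) := by
    rintro z hz g (⟨x, hx, e, he, rfl⟩ | ⟨x, hx, e, he, y, hy, rfl⟩)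
    · exact Or.inl ⟨z * x, mul_mem hz hx, e, he, by rw [mul_assoc]⟩
    · exact Or.inr ⟨z * x, mul_mem hz hx, e, he, y, hy, by simp [mul_assoc]⟩
  have hleftH : ∀ z ∈ Subgroup.zpowers h, ∀ g, P g → P (z * g) := by
    rintro z hz g (⟨x, hx, e, he, rfl⟩ | ⟨x, hx, e, he, y, hy, rfl⟩)
    · exact Or.inl ⟨z * x * z⁻¹, C.conj_mem hz hx, z * e, mul_mem hz he, by simp [mul_assoc]⟩
    · exact Or.inr ⟨z * x * z⁻¹, C.conj_mem hz hx, z * e, mul_mem hz he, y, hy, by simp [mul_assoc]⟩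
  have hflip : ∀ e ∈ Subgroup.zpowers h, t * e = e⁻¹ * t := fun e he =>
    mul_inv_eq_iff_eq_mul.1 (C.t_zpow e he)
  have hleftT : ∀ g, P g → P (t * g) := by
    rintro g (⟨x, hx, e, he, rfl⟩ | ⟨x, hx, e, he, y, hy, rfl⟩)
    · refine Or.inr ⟨1, one_mem _, e⁻¹, inv_mem he, e⁻¹ * x * e, C.conj_mem' he hx, ?_⟩
      rw [one_mul, ← hflip e he]; simp [mul_assoc]
    · rcases C.cell x hx with hxH | ⟨a, ha, f, hf, b, hb, hab⟩
      · have hxe : x * e ∈ Subgroup.zpowers h := mul_mem hxH he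
        refine Or.inl ⟨_, C.conj_mem (mul_mem (inv_mem hxe) C.sq) hy, _, mul_mem (inv_mem hxe) C.sq, ?_⟩
        have h2 := hflip _ hxe
        calc t * (x * e * t * y) = (t * (x * e)) * t * y := by simp [mul_assoc]
          _ = (x * e)⁻¹ * (t * t) * y := by rw [h2]; simp [mul_assoc]
          _ = _ := by simp [mul_assoc]
      · set k := e⁻¹ * (t * t) with hk
        have hkH : k ∈ Subgroup.zpowers h := mul_mem (inv_mem he) C.sq
        refine Or.inr ⟨a, ha, f * k⁻¹, mul_mem hf (inv_mem hkH), k⁻¹ * b * k * y,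
          mul_mem (C.conj_mem' hkH hb) hy, ?_⟩
        have h2 := hflip _ he
        have h3 := hflip _ hkH
        calc t * (x * e * t * y) = (t * x * t⁻¹) * ((t * e) * t) * y := by simp [mul_assoc]
          _ = a * f * t * b * k * y := by rw [hab, h2, hk]; simp [mul_assoc]
          _ = a * f * (k⁻¹ * (k * (t * b * k))) * y := by simp [mul_assoc]
          _ = _ := by
            have : k⁻¹ * t = t * k := by rw [h3]
            simp only [mul_assoc]
            rw [← mul_assoc k⁻¹ t, this]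
            simp [mul_assoc]
  have hinvT : ∀ g, P g → P (t⁻¹ * g) := fun g hg => by
    have : t⁻¹ * g = (t * t)⁻¹ * (t * g) := by simp [mul_assoc]
    rw [this]
    exact hleftH _ (inv_mem C.sq) _ (hleftT g hg)
  have hmem : g ∈ Subgroup.closure ({u, h, t} : Set G) := by rw [C.gen]; trivial
  show P g
  induction hmem using Subgroup.closure_induction_left with
  | one => exact Or.inl ⟨1, one_mem _, 1, one_mem _, (mul_one 1).symm⟩
  | mul_left x hx y _ ih =>
    simp only [Set.mem_insert_iff, Set.mem_singleton_iff] at hx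
    rcases hx with rfl | rfl | rfl
    · exact hleftU _ C.mem y ih
    · exact hleftH _ (Subgroup.mem_zpowers _) y ih
    · exact hleftT y ih
  | inv_mul_cancel x hx y _ ih =>
    simp only [Set.mem_insert_iff, Set.mem_singleton_iff] at hx
    rcases hx with rfl | rfl | rfl
    · exact hleftU _ (inv_mem C.mem) y ih
    · exact hleftH _ (inv_mem (Subgroup.mem_zpowers _)) y ih
    · exact hinvT y ih

/-- The bound: `Y` represents `U` modulo central elements of `U`. -/
theorem Cells.card_le [Finite U] {N : ℕ} (hN : 0 < N) (hNU : h ^ N ∈ U) {Y : Type*} [Finite Y] (s : Y → G)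
    (hY : ∀ y ∈ U, ∃ j, ∃ c ∈ U, c ∈ Subgroup.center G ∧ y = c * s j) :
    Finite G ∧ Nat.card G ≤ Nat.card U * N * (1 + Nat.card Y) := by
  have hexp : ∀ e ∈ Subgroup.zpowers h, ∃ x ∈ U, ∃ r : Fin N, e = x * h ^ (r : ℕ) := by
    intro e he
    obtain ⟨n, rfl⟩ := Subgroup.mem_zpowers_iff.1 he
    have hN' : (N : ℤ) ≠ 0 := by omega
    refine ⟨(h ^ N) ^ (n / N), zpow_mem hNU _, ⟨(n % N).toNat, ?_⟩, ?_⟩
    · have h1 := Int.emod_lt_of_pos n (show (0 : ℤ) < N by omega)
      have h2 := Int.emod_nonneg n hN'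
      omega
    · rw [← zpow_natCast h ((n % N).toNat), Int.toNat_of_nonneg (Int.emod_nonneg n hN'), ← zpow_natCast h N,
        ← zpow_mul, ← zpow_add, Int.mul_ediv_add_emod]
  let F : U × Fin N × (Option Y) → G := fun z =>
    match z.2.2 with
    | none => z.1 * h ^ (z.2.1 : ℕ)
    | some j => z.1 * h ^ (z.2.1 : ℕ) * t * s j
  have hF : Function.Surjective F := by
    intro g
    rcases C.covered g with ⟨x, hx, e, he, rfl⟩ | ⟨x, hx, e, he, y, hy, rfl⟩
    · obtain ⟨x', hx', r, rfl⟩ := hexp e he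
      exact ⟨(⟨x * x', mul_mem hx hx'⟩, r, none), by simp [F, mul_assoc]⟩
    · obtain ⟨x', hx', r, rfl⟩ := hexp e he
      obtain ⟨j, c, hc, hcz, rfl⟩ := hY y hy
      refine ⟨(⟨x * x' * c, mul_mem (mul_mem hx hx') hc⟩, r, some j), ?_⟩
      have hz := Subgroup.mem_center_iff.1 hcz
      have e1 : h ^ (r : ℕ) * t * c = c * (h ^ (r : ℕ) * t) := hz _
      simp only [F]
      calc x * x' * c * h ^ (r : ℕ) * t * s j = x * x' * (c * (h ^ (r : ℕ) * t)) * s j := by simp [mul_assoc]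
        _ = _ := by rw [← e1]; simp [mul_assoc]
  refine ⟨Finite.of_surjective F hF, ?_⟩
  haveI := Fintype.ofFinite Y
  refine (Nat.card_le_card_of_surjective F hF).trans (le_of_eq ?_)
  rw [Nat.card_prod, Nat.card_prod, Nat.card_fin, Finite.card_option, mul_assoc, add_comm (Nat.card Y)]

end Cfsg.Lib.Linear.ShortPres
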