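import Mathlib

/-!
# Short presentations: single generators of a finite field over its prime field
-/

set_option autoImplicit false

namespace Cfsg.Lib.Linear.ShortPres

open Polynomial

variable {F : Type*} [Field F] [Fintype F] {p : ℕ} [Fact p.Prime] [CharP F p]

/-- Every element of `F` is a polynomial in `a` with coefficients in the prime field. -/
def Gens (p : ℕ) [Fact p.Prime] [CharP F p] (a : F) : Prop :=
  ∀ c : F, ∃ P : (ZMod p)[X], (letI := ZMod.algebra F p; aeval a P) = c

theorem small_or_gens (a : F) :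
    Gens p a ∨ ∃ Q : ℕ, 2 ≤ Q ∧ Q * Q ≤ Fintype.card F ∧ (∃ k, Q = p ^ k) ∧
      ∀ P : (ZMod p)[X], (letI := ZMod.algebra F p; aeval a P) ^ Q = (letI := ZMod.algebra F p; aeval a P) := by
  classical
  letI := ZMod.algebra F p
  have hint : IsAlgebraic (ZMod p) a := (Algebra.IsAlgebraic.of_finite (ZMod p) F).isAlgebraic a
  set K := IntermediateField.adjoin (ZMod p) ({a} : Set F) with hK
  have hmem : ∀ P : (ZMod p)[X], aeval a P ∈ K := by
    intro P
    rw [← IntermediateField.mem_toSubalgebra, hK, IntermediateField.adjoin_simple_toSubalgebra_of_isAlgebraic hint,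
      Algebra.adjoin_singleton_eq_range_aeval]
    exact ⟨P, rfl⟩
  by_cases htop : K = ⊤
  · left
    intro c
    have : c ∈ K.toSubalgebra := by rw [htop]; trivial
    rw [hK, IntermediateField.adjoin_simple_toSubalgebra_of_isAlgebraic hint,
      Algebra.adjoin_singleton_eq_range_aeval] at this
    obtain ⟨P, hP⟩ := this
    exact ⟨P, hP⟩
  · right
    haveI : CharP K p := CharP.subring F p K.toSubalgebra.toSubring
    refine ⟨Fintype.card K, Fintype.one_lt_card, ?_,
      (let ⟨k, _, hk⟩ := FiniteField.card K p; ⟨k, hk⟩), fun P => ?_⟩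
    · have hfin : 2 ≤ Module.finrank K F := by
        have h0 : 0 < Module.finrank K F := Module.finrank_pos
        by_contra h
        exact htop (IntermediateField.finrank_eq_one_iff_eq_top.1 (by omega))
      rw [Module.card_eq_pow_finrank (K := K) (V := F), ← pow_two]
      exact Nat.pow_le_pow_right Fintype.card_pos hfin
    · have := FiniteField.pow_card (⟨aeval a P, hmem P⟩ : K)
      exact congrArg Subtype.val this

theorem gens_sq {ζ : F} (hord : orderOf ζ = Fintype.card F - 1) : Gens p (ζ ^ 2) := by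
  rcases small_or_gens (p := p) (ζ ^ 2) with h | ⟨Q, hQ, hQ2, -, h⟩
  · exact h
  exfalso
  letI := ZMod.algebra F p
  have hζ : ζ ≠ 0 := fun h0 => by
    have : orderOf ζ = 0 := by rw [h0, orderOf_zero]
    have := Fintype.one_lt_card (α := F); omega
  have h1 := h X
  simp only [aeval_X] at h1
  have h2 : ζ ^ (2 * (Q - 1)) = 1 := by
    have : (ζ ^ 2) ^ (Q - 1) * ζ ^ 2 = 1 * ζ ^ 2 := by
      rw [← pow_succ, Nat.sub_add_cancel (by omega), h1, one_mul]
    rw [pow_mul]
    exact mul_right_cancel₀ (pow_ne_zero _ hζ) this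
  have hle := Nat.le_of_dvd (by omega) (orderOf_dvd_of_pow_eq_one h2)
  rw [hord] at hle
  nlinarith [Nat.sub_add_cancel (show 1 ≤ Q by omega), Nat.sub_add_cancel (show 1 ≤ Fintype.card F from Fintype.card_pos)]

theorem exists_sq_pair {ζ : F} (hord : orderOf ζ = Fintype.card F - 1) (h11 : 11 ≤ Fintype.card F)
    (h2 : (2 : F) ≠ 0) : ∃ s r : F, s ≠ 0 ∧ r ≠ 0 ∧ r ^ 2 = s ^ 2 + 1 ∧ Gens p (s ^ 2) := by
  letI := ZMod.algebra F p
  have hζ : ζ ≠ 0 := fun h0 => by
    have : orderOf ζ = 0 := by rw [h0, orderOf_zero]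
    omega
  have hne : ∀ e : ℕ, 0 < e → e < 10 → ζ ^ e ≠ 1 := by
    intro e he he' h
    have := Nat.le_of_dvd he (orderOf_dvd_of_pow_eq_one h)
    omega
  have h4 : (4 : F) ≠ 0 := by
    have : (4 : F) = 2 * 2 := by norm_num
    rw [this]; exact mul_ne_zero h2 h2
  refine ⟨(ζ - ζ⁻¹) / 2, (ζ + ζ⁻¹) / 2, ?_, ?_, ?_, ?_⟩
  · refine div_ne_zero (fun h => hne 2 two_pos (by norm_num) ?_) h2
    rw [sub_eq_zero] at h
    rw [pow_two]
    nth_rewrite 1 [h]
    exact inv_mul_cancel₀ hζ
  · refine div_ne_zero (fun h => hne 4 (by norm_num) (by norm_num) ?_) h2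
    have hz : ζ ^ 2 = -1 := by
      rw [add_eq_zero_iff_eq_neg] at h
      rw [pow_two]
      nth_rewrite 1 [h]
      rw [neg_mul, inv_mul_cancel₀ hζ]
    rw [show (4 : ℕ) = 2 * 2 by rfl, pow_mul, hz]; ring
  · field_simp; ring
  · rcases small_or_gens (p := p) (((ζ - ζ⁻¹) / 2) ^ 2) with h | ⟨Q, hQ, hQ2, ⟨k, hk⟩, h⟩
    · exact h
    exfalso
    have h1 := h (C 4 * X + C 2)
    have hC : aeval (((ζ - ζ⁻¹) / 2) ^ 2) (C (4 : ZMod p) * X + C 2) = ζ ^ 2 + (ζ ^ 2)⁻¹ := by
      simp only [map_add, map_mul, aeval_C, aeval_X, map_ofNat]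
      field_simp
      ring
    rw [hC] at h1
    set x := ζ ^ 2 with hx
    have hx0 : x ≠ 0 := pow_ne_zero _ hζ
    rw [hk, add_pow_char_pow, ← hk, inv_pow] at h1
    have hy0 : x ^ Q ≠ 0 := pow_ne_zero _ hx0
    have hprod : (x ^ Q - x) * (x ^ Q * x - 1) = 0 := by
      field_simp at h1
      linear_combination h1
    rcases mul_eq_zero.1 hprod with e | e <;> rw [sub_eq_zero] at e
    · have : ζ ^ (2 * (Q - 1)) = 1 := by
        have : x ^ (Q - 1) * x = 1 * x := by rw [← pow_succ, Nat.sub_add_cancel (by omega), e, one_mul]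
        rw [pow_mul]
        exact mul_right_cancel₀ hx0 this
      have hle := Nat.le_of_dvd (by omega) (orderOf_dvd_of_pow_eq_one this)
      rw [hord] at hle
      nlinarith [Nat.sub_add_cancel (show 1 ≤ Q by omega), Nat.sub_add_cancel (show 1 ≤ Fintype.card F by omega)]
    · have : ζ ^ (2 * (Q + 1)) = 1 := by rw [pow_mul, pow_succ, e]
      have hle := Nat.le_of_dvd (by omega) (orderOf_dvd_of_pow_eq_one this)
      rw [hord] at hle
      have : Q ≤ 3 := by nlinarith [Nat.sub_add_cancel (show 1 ≤ Fintype.card F by omega)]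
      omega

end Cfsg.Lib.Linear.ShortPres
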