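import Cfsg.Agent.Lib.Linear.ShortPres.Bdd

/-!
# Presentations on given generators

`BddOn v r` says that the elements `v` generate their group subject to at most `r` relators.  Besides the
gluing construction this gives two Tietze transformations: one further generator costs one relator, and
passing to a generating subfamily costs nothing.
-/

set_option autoImplicit false

namespace Cfsg.Lib.Linear.ShortPres

/-- The elements `v` present `M` with at most `r` relators. -/
def BddOn {M : Type*} [Group M] {k : ℕ} (v : Fin k → M) (r : ℕ) : Prop :=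
  ∃ rels : Finset (FreeGroup (Fin k)), rels.card ≤ r ∧
    ∃ e : PresentedGroup (↑rels : Set (FreeGroup (Fin k))) ≃* M, ∀ i, e (PresentedGroup.of i) = v i

theorem BddOn.bddG {M : Type*} [Group M] {k r : ℕ} {v : Fin k → M} (h : BddOn v r) : BddG M k r := by
  obtain ⟨R, hR, e, -⟩ := h
  exact ⟨R, hR, ⟨e⟩⟩

theorem BddG.exists_on {M : Type*} [Group M] {k r : ℕ} (h : BddG M k r) : ∃ v : Fin k → M, BddOn v r := by
  obtain ⟨R, hR, ⟨e⟩⟩ := h
  exact ⟨_, R, hR, e, fun _ => rfl⟩

theorem BddOn.mono {M : Type*} [Group M] {k r s : ℕ} {v : Fin k → M} (h : BddOn v r) (hrs : r ≤ s) :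
    BddOn v s := by
  obtain ⟨R, hR, he⟩ := h
  exact ⟨R, hR.trans hrs, he⟩

theorem BddOn.closure {M : Type*} [Group M] {k r : ℕ} {v : Fin k → M} (h : BddOn v r) :
    Subgroup.closure (Set.range v) = ⊤ := by
  obtain ⟨R, -, e, he⟩ := h
  rw [show v = e.toMonoidHom ∘ PresentedGroup.of from funext fun i => (he i).symm, Set.range_comp,
    ← MonoidHom.map_closure, PresentedGroup.closure_range_of, Subgroup.map_top_of_surjective _ e.surjective]

theorem BddOn.map {M N : Type*} [Group M] [Group N] {k r : ℕ} {v : Fin k → M} (h : BddOn v r) (f : M ≃* N) :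
    BddOn (fun i => f (v i)) r := by
  obtain ⟨R, hR, e, he⟩ := h
  exact ⟨R, hR, e.trans f, fun i => by simp [he]⟩

/-- Relations that force a homomorphism to be injective give a presentation. -/
theorem BddOn.present {k : ℕ} {M : Type*} [Group M] (E : List (FreeGroup (Fin k) × FreeGroup (Fin k)))
    (v : Fin k → M) (hE : ∀ e ∈ E, FreeGroup.lift v e.1 = FreeGroup.lift v e.2)
    (hgen : Subgroup.closure (Set.range v) = ⊤)
    (hinj : ∀ (P : Type) [Group P] (o : Fin k → P) (φ : P →* M), Subgroup.closure (Set.range o) = ⊤ →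
      (∀ i, φ (o i) = v i) → (∀ e ∈ E, FreeGroup.lift o e.1 = FreeGroup.lift o e.2) → Function.Injective φ) :
    BddOn v E.length := by
  classical
  set R : Finset (FreeGroup (Fin k)) := (E.map fun e => e.1 * e.2⁻¹).toFinset with hR
  have hrel : ∀ r ∈ (R : Set (FreeGroup (Fin k))), FreeGroup.lift v r = 1 := by
    intro r hr
    obtain ⟨e, he, rfl⟩ := List.mem_map.1 (List.mem_toFinset.1 hr)
    rw [map_mul, map_inv, hE e he, mul_inv_cancel]
  set φ := PresentedGroup.toGroup hrel
  set o := PresentedGroup.of (rels := (R : Set (FreeGroup (Fin k)))) with ho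
  have hmk : FreeGroup.lift o = PresentedGroup.mk (R : Set (FreeGroup (Fin k))) :=
    FreeGroup.ext_hom _ _ fun i => by simp [ho, PresentedGroup.of]
  have hrels : ∀ e ∈ E, FreeGroup.lift o e.1 = FreeGroup.lift o e.2 := by
    intro e he
    rw [hmk]
    have := PresentedGroup.one_of_mem (rels := (R : Set (FreeGroup (Fin k))))
      (x := e.1 * e.2⁻¹) (List.mem_toFinset.2 (List.mem_map.2 ⟨e, he, rfl⟩))
    rwa [map_mul, map_inv, mul_inv_eq_one] at this
  have hsurj : Function.Surjective φ := by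
    rw [← MonoidHom.range_eq_top, eq_top_iff, ← hgen, Subgroup.closure_le]
    rintro x ⟨i, rfl⟩
    exact ⟨o i, PresentedGroup.toGroup.of hrel⟩
  have hi := hinj _ o φ (PresentedGroup.closure_range_of _) (fun i => PresentedGroup.toGroup.of hrel) hrels
  exact ⟨R, (List.toFinset_card_le _).trans (List.length_map _).le, MulEquiv.ofBijective φ ⟨hi, hsurj⟩,
    fun i => PresentedGroup.toGroup.of hrel⟩

/-- Two presented pieces and some linking relations present the group they generate. -/
theorem BddOn.combine {C₁ C₂ : Type*} [Group C₁] [Group C₂] {k₁ k₂ r₁ r₂ : ℕ} {u₁ : Fin k₁ → C₁}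
    {u₂ : Fin k₂ → C₂} (h₁ : BddOn u₁ r₁) (h₂ : BddOn u₂ r₂) {M : Type*} [Group M] (ι₁ : C₁ →* M)
    (ι₂ : C₂ →* M) (hgen : Subgroup.closure (Set.range ι₁ ∪ Set.range ι₂) = ⊤)
    (L : List (FreeGroup (C₁ ⊕ C₂) × FreeGroup (C₁ ⊕ C₂)))
    (hL : ∀ e ∈ L, FreeGroup.lift (Sum.elim ι₁ ι₂) e.1 = FreeGroup.lift (Sum.elim ι₁ ι₂) e.2)
    (hinj : ∀ (G : Type) [Group G] (A : C₁ →* G) (B : C₂ →* G) (φ : G →* M),
      Subgroup.closure (Set.range A ∪ Set.range B) = ⊤ → φ.comp A = ι₁ → φ.comp B = ι₂ →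
      (∀ e ∈ L, FreeGroup.lift (Sum.elim A B) e.1 = FreeGroup.lift (Sum.elim A B) e.2) →
      Function.Injective φ) :
    BddOn (Fin.append (fun i => ι₁ (u₁ i)) (fun i => ι₂ (u₂ i))) (r₁ + r₂ + L.length) := by
  classical
  obtain ⟨R₁, hR₁, e₁, he₁⟩ := h₁
  obtain ⟨R₂, hR₂, e₂, he₂⟩ := h₂
  choose w₁ hw₁ using fun c => PresentedGroup.mk_surjective _ (e₁.symm c)
  choose w₂ hw₂ using fun c => PresentedGroup.mk_surjective _ (e₂.symm c)
  let J₁ : FreeGroup (Fin k₁) →* FreeGroup (Fin (k₁ + k₂)) := FreeGroup.lift fun i => FreeGroup.of (Fin.castAdd k₂ i)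
  let J₂ : FreeGroup (Fin k₂) →* FreeGroup (Fin (k₁ + k₂)) := FreeGroup.lift fun i => FreeGroup.of (Fin.natAdd k₁ i)
  let σ : FreeGroup (C₁ ⊕ C₂) →* FreeGroup (Fin (k₁ + k₂)) :=
    FreeGroup.lift (Sum.elim (fun c => J₁ (w₁ c)) (fun c => J₂ (w₂ c)))
  set E : List (FreeGroup (Fin (k₁ + k₂)) × FreeGroup (Fin (k₁ + k₂))) :=
    (R₁.toList.map fun r => (J₁ r, 1)) ++ (R₂.toList.map fun r => (J₂ r, 1)) ++ L.map (fun e => (σ e.1, σ e.2))
  set v := Fin.append (fun i => ι₁ (u₁ i)) (fun i => ι₂ (u₂ i)) with hv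
  have hv₁ : (FreeGroup.lift v).comp J₁ = (ι₁.comp e₁.toMonoidHom).comp (PresentedGroup.mk _) :=
    FreeGroup.ext_hom _ _ fun i => by simp [J₁, v, ← he₁, PresentedGroup.of]
  have hv₂ : (FreeGroup.lift v).comp J₂ = (ι₂.comp e₂.toMonoidHom).comp (PresentedGroup.mk _) :=
    FreeGroup.ext_hom _ _ fun i => by simp [J₂, v, ← he₂, PresentedGroup.of]
  have hσ : (FreeGroup.lift v).comp σ = FreeGroup.lift (Sum.elim ι₁ ι₂) :=
    FreeGroup.ext_hom _ _ fun c => by
      rcases c with c | c <;>
        simp only [σ, MonoidHom.comp_apply, FreeGroup.lift_apply_of, Sum.elim_inl, Sum.elim_inr]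
      · rw [← MonoidHom.comp_apply, hv₁]; simp [hw₁]
      · rw [← MonoidHom.comp_apply, hv₂]; simp [hw₂]
  have hlen : E.length ≤ r₁ + r₂ + L.length := by
    simp only [E, List.length_append, List.length_map, Finset.length_toList]
    omega
  refine (BddOn.present E v ?_ ?_ ?_).mono hlen
  · intro e he
    simp only [E, List.mem_append, List.mem_map, Finset.mem_toList] at he
    rcases he with (⟨r, hr, rfl⟩ | ⟨r, hr, rfl⟩) | ⟨e', he', rfl⟩
    · rw [← MonoidHom.comp_apply, hv₁, MonoidHom.comp_apply, PresentedGroup.one_of_mem (Finset.mem_coe.2 hr),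
        map_one, map_one]
    · rw [← MonoidHom.comp_apply, hv₂, MonoidHom.comp_apply, PresentedGroup.one_of_mem (Finset.mem_coe.2 hr),
        map_one, map_one]
    · rw [← MonoidHom.comp_apply, ← MonoidHom.comp_apply, hσ]
      exact hL e' he'
  · rw [← FreeGroup.range_lift_eq_closure, eq_top_iff, ← hgen, Subgroup.closure_le]
    rintro _ (⟨c, rfl⟩ | ⟨c, rfl⟩)
    · exact ⟨J₁ (w₁ c), by rw [← MonoidHom.comp_apply, hv₁]; simp [hw₁]⟩
    · exact ⟨J₂ (w₂ c), by rw [← MonoidHom.comp_apply, hv₂]; simp [hw₂]⟩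
  · intro P _ o φ ho hφ hr
    have k₁' : ∀ r ∈ (↑R₁ : Set (FreeGroup (Fin k₁))), FreeGroup.lift (fun i => o (Fin.castAdd k₂ i)) r = 1 :=
      fun r hr' => by
        have h := hr (J₁ r, 1) (List.mem_append_left _ (List.mem_append_left _
          (List.mem_map.2 ⟨r, Finset.mem_toList.2 hr', rfl⟩)))
        rw [map_one] at h
        rw [← h, ← MonoidHom.comp_apply]
        congr 1
        exact FreeGroup.ext_hom _ _ fun i => by simp [J₁]
    have k₂' : ∀ r ∈ (↑R₂ : Set (FreeGroup (Fin k₂))), FreeGroup.lift (fun i => o (Fin.natAdd k₁ i)) r = 1 :=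
      fun r hr' => by
        have h := hr (J₂ r, 1) (List.mem_append_left _ (List.mem_append_right _
          (List.mem_map.2 ⟨r, Finset.mem_toList.2 hr', rfl⟩)))
        rw [map_one] at h
        rw [← h, ← MonoidHom.comp_apply]
        congr 1
        exact FreeGroup.ext_hom _ _ fun i => by simp [J₂]
    set A : C₁ →* P := (PresentedGroup.toGroup k₁').comp e₁.symm.toMonoidHom
    set B : C₂ →* P := (PresentedGroup.toGroup k₂').comp e₂.symm.toMonoidHom
    have hA : (FreeGroup.lift o).comp J₁ = (A.comp e₁.toMonoidHom).comp (PresentedGroup.mk _) :=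
      FreeGroup.ext_hom _ _ fun i => by
        simp only [MonoidHom.comp_apply, J₁, A, FreeGroup.lift_apply_of, MulEquiv.coe_toMonoidHom,
          MulEquiv.symm_apply_apply]
        exact (PresentedGroup.toGroup.of k₁').symm
    have hB : (FreeGroup.lift o).comp J₂ = (B.comp e₂.toMonoidHom).comp (PresentedGroup.mk _) :=
      FreeGroup.ext_hom _ _ fun i => by
        simp only [MonoidHom.comp_apply, J₂, B, FreeGroup.lift_apply_of, MulEquiv.coe_toMonoidHom,
          MulEquiv.symm_apply_apply]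
        exact (PresentedGroup.toGroup.of k₂').symm
    have hσP : (FreeGroup.lift o).comp σ = FreeGroup.lift (Sum.elim A B) :=
      FreeGroup.ext_hom _ _ fun c => by
        rcases c with c | c <;>
          simp only [σ, MonoidHom.comp_apply, FreeGroup.lift_apply_of, Sum.elim_inl, Sum.elim_inr]
        · rw [← MonoidHom.comp_apply, hA]; simp [hw₁]
        · rw [← MonoidHom.comp_apply, hB]; simp [hw₂]
    refine hinj P A B φ ?_ ?_ ?_ fun e he => ?_
    · rw [eq_top_iff, ← ho, Subgroup.closure_le]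
      rintro _ ⟨i, rfl⟩
      refine Subgroup.subset_closure ?_
      induction i using Fin.addCases with
      | left j =>
        refine Or.inl ⟨e₁ (PresentedGroup.of j), ?_⟩
        simp only [A, MonoidHom.comp_apply, MulEquiv.coe_toMonoidHom, MulEquiv.symm_apply_apply]
        exact PresentedGroup.toGroup.of k₁'
      | right j =>
        refine Or.inr ⟨e₂ (PresentedGroup.of j), ?_⟩
        simp only [B, MonoidHom.comp_apply, MulEquiv.coe_toMonoidHom, MulEquiv.symm_apply_apply]
        exact PresentedGroup.toGroup.of k₂'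
    · have hh : (φ.comp (PresentedGroup.toGroup k₁')) = ι₁.comp e₁.toMonoidHom := PresentedGroup.ext fun i => by
        simp [hφ, v, he₁]
      ext c
      have := DFunLike.congr_fun hh (e₁.symm c)
      simpa [A] using this
    · have hh : (φ.comp (PresentedGroup.toGroup k₂')) = ι₂.comp e₂.toMonoidHom := PresentedGroup.ext fun i => by
        simp [hφ, v, he₂]
      ext c
      have := DFunLike.congr_fun hh (e₂.symm c)
      simpa [B] using this
    · rw [← hσP]
      exact hr (σ e.1, σ e.2) (List.mem_append_right _ (List.mem_map.2 ⟨e, he, rfl⟩))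

/-- The gluing with a bound on the order in place of injectivity. -/
theorem BddOn.combine_card {C₁ C₂ : Type*} [Group C₁] [Group C₂] {k₁ k₂ r₁ r₂ : ℕ} {u₁ : Fin k₁ → C₁}
    {u₂ : Fin k₂ → C₂} (h₁ : BddOn u₁ r₁) (h₂ : BddOn u₂ r₂) {M : Type*} [Group M] [Finite M] (ι₁ : C₁ →* M)
    (ι₂ : C₂ →* M) (hgen : Subgroup.closure (Set.range ι₁ ∪ Set.range ι₂) = ⊤)
    (L : List (FreeGroup (C₁ ⊕ C₂) × FreeGroup (C₁ ⊕ C₂)))
    (hL : ∀ e ∈ L, FreeGroup.lift (Sum.elim ι₁ ι₂) e.1 = FreeGroup.lift (Sum.elim ι₁ ι₂) e.2)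
    (hbound : ∀ (G : Type) [Group G] (A : C₁ →* G) (B : C₂ →* G),
      Subgroup.closure (Set.range A ∪ Set.range B) = ⊤ →
      (∀ e ∈ L, FreeGroup.lift (Sum.elim A B) e.1 = FreeGroup.lift (Sum.elim A B) e.2) →
      Finite G ∧ Nat.card G ≤ Nat.card M) :
    BddOn (Fin.append (fun i => ι₁ (u₁ i)) (fun i => ι₂ (u₂ i))) (r₁ + r₂ + L.length) :=
  h₁.combine h₂ ι₁ ι₂ hgen L hL fun G _ A B φ hg hA hB hr => by
    obtain ⟨hfin, hb⟩ := hbound G A B hg hr
    haveI := hfin
    have hs : Function.Surjective φ := by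
      rw [← MonoidHom.range_eq_top, eq_top_iff, ← hgen, Subgroup.closure_le]
      rintro _ (⟨c, rfl⟩ | ⟨c, rfl⟩)
      · exact ⟨A c, DFunLike.congr_fun hA c⟩
      · exact ⟨B c, DFunLike.congr_fun hB c⟩
    exact ((Nat.bijective_iff_surjective_and_card φ).2
      ⟨hs, le_antisymm hb (Nat.card_le_card_of_surjective φ hs)⟩).1

/-- Free groups need no relators. -/
theorem BddOn.free (s : ℕ) : BddOn (FreeGroup.of : Fin s → FreeGroup (Fin s)) 0 :=
  ⟨∅, le_rfl, MonoidHom.toMulEquiv (PresentedGroup.toGroup (f := FreeGroup.of) (by simp)) (PresentedGroup.mk _)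
    (PresentedGroup.ext fun i => by
      show PresentedGroup.mk _ (PresentedGroup.toGroup _ (PresentedGroup.of i)) = PresentedGroup.of i
      rw [PresentedGroup.toGroup.of]; rfl)
    (FreeGroup.ext_hom _ _ fun i => by
      simp only [MonoidHom.comp_apply, MonoidHom.id_apply]
      exact PresentedGroup.toGroup.of _), fun i => by simp⟩

theorem lift_map_of {C : Type*} {s : ℕ} {G : Type*} [Group G] (A : C → G) (B : FreeGroup (Fin s) →* G)
    (x : FreeGroup (C ⊕ Fin s)) :
    FreeGroup.lift (Sum.elim A B) (FreeGroup.map (Sum.map id FreeGroup.of) x) =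
      FreeGroup.lift (Sum.elim A fun i => B (FreeGroup.of i)) x := by
  show (FreeGroup.lift (Sum.elim A B)).comp (FreeGroup.map (Sum.map id FreeGroup.of)) x = _
  congr 1
  exact FreeGroup.ext_hom _ _ fun c => by rcases c with c | c <;> simp

/-- A presented group and some new elements. -/
theorem BddOn.extend {C : Type*} [Group C] {k r : ℕ} {u : Fin k → C} (h : BddOn u r) {M : Type*} [Group M]
    (ι : C →* M) {s : ℕ} (w : Fin s → M) (hgen : Subgroup.closure (Set.range ι ∪ Set.range w) = ⊤)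
    (L : List (FreeGroup (C ⊕ Fin s) × FreeGroup (C ⊕ Fin s)))
    (hL : ∀ e ∈ L, FreeGroup.lift (Sum.elim ι w) e.1 = FreeGroup.lift (Sum.elim ι w) e.2)
    (hinj : ∀ (G : Type) [Group G] (A : C →* G) (b : Fin s → G) (φ : G →* M),
      Subgroup.closure (Set.range A ∪ Set.range b) = ⊤ → φ.comp A = ι → (∀ i, φ (b i) = w i) →
      (∀ e ∈ L, FreeGroup.lift (Sum.elim A b) e.1 = FreeGroup.lift (Sum.elim A b) e.2) → Function.Injective φ) :
    BddOn (Fin.append (fun i => ι (u i)) w) (r + L.length) := by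
  let T : FreeGroup (C ⊕ Fin s) →* FreeGroup (C ⊕ FreeGroup (Fin s)) :=
    FreeGroup.map (Sum.map id FreeGroup.of)
  have h' := h.combine (BddOn.free s) ι (FreeGroup.lift w) (by
    rw [eq_top_iff, ← hgen]
    refine Subgroup.closure_mono (Set.union_subset_union_right _ ?_)
    rintro _ ⟨i, rfl⟩
    exact ⟨FreeGroup.of i, by simp⟩) (L.map fun e => (T e.1, T e.2)) ?_ ?_
  · simp only [FreeGroup.lift_apply_of, List.length_map, Nat.add_zero] at h'
    exact h'
  · simp only [List.forall_mem_map, T, lift_map_of]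
    simpa using hL
  · intro G _ A B φ hg hA hB hr
    simp only [List.forall_mem_map, T, lift_map_of] at hr
    refine hinj G A (fun i => B (FreeGroup.of i)) φ ?_ hA (fun i => by rw [← MonoidHom.comp_apply, hB]; simp) hr
    rw [eq_top_iff, ← hg, Subgroup.closure_le]
    rintro _ (⟨c, rfl⟩ | ⟨c, rfl⟩)
    · exact Subgroup.subset_closure (Or.inl ⟨c, rfl⟩)
    · have : B c ∈ (FreeGroup.lift fun i => B (FreeGroup.of i)).range := ⟨c, by
        congr 1; exact FreeGroup.ext_hom _ _ fun i => by simp⟩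
      rw [FreeGroup.range_lift_eq_closure] at this
      exact Subgroup.closure_mono Set.subset_union_right this

/-- One further generator costs one relator. -/
theorem BddOn.snoc {M : Type*} [Group M] {k r : ℕ} {v : Fin k → M} (h : BddOn v r) (a : M) :
    BddOn (Fin.append v (fun _ : Fin 1 => a)) (r + 1) := by
  have h' := h.extend (MonoidHom.id M) (fun _ : Fin 1 => a)
    (eq_top_iff.2 fun g _ => Subgroup.subset_closure (Or.inl ⟨g, rfl⟩))
    [(FreeGroup.of (Sum.inr 0), FreeGroup.of (Sum.inl a))] (by simp) ?_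
  · simpa using h'
  · intro G _ A b φ hg hA hb hr x y hxy
    have h0 : b 0 = A a := by simpa using hr
    have hs : Function.Surjective A := by
      rw [← MonoidHom.range_eq_top, eq_top_iff, ← hg, Subgroup.closure_le]
      rintro _ (⟨c, rfl⟩ | ⟨c, rfl⟩)
      · exact ⟨c, rfl⟩
      · exact ⟨a, by rw [Subsingleton.elim c 0, h0]⟩
    obtain ⟨x, rfl⟩ := hs x
    obtain ⟨y, rfl⟩ := hs y
    rw [← MonoidHom.comp_apply, ← MonoidHom.comp_apply, hA] at hxy
    simp only [MonoidHom.id_apply] at hxy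
    rw [hxy]

/-- A generating subfamily needs no further relator. -/
theorem BddOn.sub {M : Type*} [Group M] {k r j : ℕ} {v : Fin k → M} (h : BddOn v r) {g : Fin j → Fin k}
    (hg : Function.Injective g) (hgen : Subgroup.closure (Set.range (v ∘ g)) = ⊤) : BddOn (v ∘ g) r := by
  classical
  obtain ⟨R, hR, e, he⟩ := h
  have hs : Function.Surjective (FreeGroup.lift (v ∘ g)) := by
    rw [← MonoidHom.range_eq_top, FreeGroup.range_lift_eq_closure, hgen]
  have hu : ∀ i, ∃ u, FreeGroup.lift (v ∘ g) u = v i ∧ ∀ l, g l = i → u = FreeGroup.of l := by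
    intro i
    by_cases hi : ∃ l, g l = i
    · obtain ⟨l, rfl⟩ := hi
      exact ⟨FreeGroup.of l, by simp, fun l' hl => by rw [hg hl]⟩
    · obtain ⟨u, hu⟩ := hs (v i)
      exact ⟨u, hu, fun l hl => absurd ⟨l, hl⟩ hi⟩
  choose u hu hu' using hu
  let U : FreeGroup (Fin k) →* FreeGroup (Fin j) := FreeGroup.lift u
  set E : List (FreeGroup (Fin j) × FreeGroup (Fin j)) := R.toList.map fun x => (U x, 1) with hE
  have hU : (FreeGroup.lift (v ∘ g)).comp U = e.toMonoidHom.comp (PresentedGroup.mk _) :=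
    FreeGroup.ext_hom _ _ fun i => by simp [U, hu, ← he, PresentedGroup.of]
  refine (BddOn.present E _ ?_ hgen ?_).mono (by simpa [E] using hR)
  · simp only [E, List.forall_mem_map, Finset.mem_toList, map_one]
    intro x hx
    rw [← MonoidHom.comp_apply, hU, MonoidHom.comp_apply, PresentedGroup.one_of_mem (Finset.mem_coe.2 hx), map_one]
  · intro P _ o φ ho hφ hr
    simp only [E, List.forall_mem_map, Finset.mem_toList, map_one] at hr
    have hrel : ∀ x ∈ (↑R : Set (FreeGroup (Fin k))), FreeGroup.lift (fun i => FreeGroup.lift o (u i)) x = 1 := by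
      intro x hx
      have e' : FreeGroup.lift (fun i => FreeGroup.lift o (u i)) = (FreeGroup.lift o).comp U :=
        FreeGroup.ext_hom _ _ fun i => by simp [U]
      rw [e']
      exact hr x hx
    let Ψ : M →* P := (PresentedGroup.toGroup hrel).comp e.symm.toMonoidHom
    have hΨ : ∀ p, Ψ (φ p) = p := by
      intro p
      have : p ∈ (MonoidHom.id P).eqLocus (Ψ.comp φ) := by
        suffices hle : (⊤ : Subgroup P) ≤ (MonoidHom.id P).eqLocus (Ψ.comp φ) from hle trivial
        rw [← ho, Subgroup.closure_le]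
        rintro _ ⟨l, rfl⟩
        show o l = Ψ (φ (o l))
        rw [hφ, Function.comp_apply, ← he (g l)]
        simp [Ψ, hu' (g l) l rfl]
      exact this.symm
    exact Function.LeftInverse.injective hΨ

end Cfsg.Lib.Linear.ShortPres
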