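import Cfsg.Agent.Lib.Linear.ShortPres.SLTwo
import Cfsg.Agent.Lib.Linear.ShortPres.Cover

/-!
# Short presentations: the root subgroup of a presented group and the presentation criterion
-/

set_option autoImplicit false

namespace Cfsg.Lib.Linear.ShortPres

open Polynomial Matrix
open scoped MatrixGroups

section Orb

variable {G : Type*} [Group G] {u g : G}

open scoped Classical in
/-- The orbit subgroup is generated by its first `n` generators if the next one is among them. -/
theorem orb_eq_first {n : ℕ} (hn : 0 < n) (S : Set G) (hS : ∀ x ∈ S, g * x * g⁻¹ = x)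
    (hrec : cj u g n ∈ Subgroup.closure (S ∪ cj u g '' Set.Iio n)) :
    orb u g ≤ Subgroup.closure (S ∪ cj u g '' Set.Iio n) := by
  refine orb_le_of_closed (Subgroup.subset_closure (Or.inr ⟨0, hn, cj_zero u g⟩)) fun x hx => ?_
  induction hx using Subgroup.closure_induction with
  | mem b hb =>
    rcases hb with hb | ⟨i, hi, rfl⟩
    · rw [hS b hb]; exact Subgroup.subset_closure (Or.inl hb)
    · rw [← cj_succ]
      rcases Nat.lt_or_ge (i + 1) n with h | h
      · exact Subgroup.subset_closure (Or.inr ⟨i + 1, h, rfl⟩)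
      · have : i + 1 = n := le_antisymm hi h
        rwa [this]
  | one => simp
  | mul b c _ _ h1 h2 => simpa [mul_assoc] using mul_mem h1 h2
  | inv b _ h => simpa [mul_assoc] using inv_mem h

theorem commute_cj_small {n' : ℕ} (hn : 0 < n') (hn2 : n' ≤ 2) (h1 : Commute u (cj u g 1))
    (hrec : cj u g n' ∈ Subgroup.closure (cj u g '' Set.Iio n')) : ∀ i, Commute u (cj u g i) := by
  intro i
  have hle := orb_eq_first hn ∅ (by simp) (by simpa using hrec)
  have hc : Subgroup.closure (∅ ∪ cj u g '' Set.Iio n') ≤ Subgroup.centralizer ({u} : Set G) := by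
    rw [Subgroup.closure_le]
    rintro x (hx | ⟨m, hm, rfl⟩)
    · exact hx.elim
    · rw [SetLike.mem_coe, Subgroup.mem_centralizer_singleton_iff]
      have : m = 0 ∨ m = 1 := by have := Set.mem_Iio.1 hm; omega
      rcases this with rfl | rfl
      · rw [cj_zero]
      · exact h1.eq.symm
  exact ((Subgroup.mem_centralizer_singleton_iff.1 (hc (hle (cj_mem u g i))))).symm

open scoped Classical in
theorem orb_card {p n : ℕ} (hp : 0 < p) (hn : 0 < n) (hup : u ^ p = 1) (hc : ∀ i, Commute u (cj u g i))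
    (T : Finset G) (hT : ∀ x ∈ T, x ∈ orb u g ∧ g * x * g⁻¹ = x)
    (hrec : cj u g n ∈ Subgroup.closure ((T : Set G) ∪ cj u g '' Set.Iio n)) :
    Finite (orb u g) ∧ Nat.card (orb u g) ≤ p ^ (T.card + n) := by
  set s : Finset G := T ∪ (Finset.range n).image (cj u g) with hs
  have hset : (s : Set G) = (T : Set G) ∪ cj u g '' Set.Iio n := by
    simp [hs, Finset.coe_range]
  have heq : Subgroup.closure (s : Set G) = orb u g := by
    refine le_antisymm ?_ ?_
    · rw [Subgroup.closure_le, hset]
      rintro x (hx | ⟨m, -, rfl⟩)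
      · exact (hT x hx).1
      · exact cj_mem u g m
    · rw [hset]; exact orb_eq_first hn _ (fun x hx => (hT x hx).2) hrec
  have := card_closure_le hp s (fun x hx y hy => orb_comm hc (heq ▸ hx) (heq ▸ hy))
    (fun x hx => orb_pow hc hup (heq ▸ hx))
  rw [heq] at this
  refine ⟨this.1, this.2.trans (Nat.pow_le_pow_right hp ?_)⟩
  exact (Finset.card_union_le _ _).trans (by
    have := Finset.card_image_le (s := Finset.range n) (f := cj u g)
    rw [Finset.card_range] at this
    omega)

end Orb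

section Present

/-- The free generators. -/
abbrev U0 : FreeGroup (Fin 3) := FreeGroup.of 0
/-- The free generators. -/
abbrev H0 : FreeGroup (Fin 3) := FreeGroup.of 1
/-- The free generators. -/
abbrev T0 : FreeGroup (Fin 3) := FreeGroup.of 2

theorem present {M : Type*} [Group M] [Finite M]
    (E : List (FreeGroup (Fin 3) × FreeGroup (Fin 3))) (a b c : M)
    (hE : ∀ e ∈ E, FreeGroup.lift ![a, b, c] e.1 = FreeGroup.lift ![a, b, c] e.2)
    (hgen : Subgroup.closure ({a, b, c} : Set M) = ⊤)
    (hcard : ∀ (P : Type) [Group P] (u h t : P) (φ : P →* M), Subgroup.closure ({u, h, t} : Set P) = ⊤ →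
      φ u = a → φ h = b → φ t = c →
      (∀ e ∈ E, FreeGroup.lift ![u, h, t] e.1 = FreeGroup.lift ![u, h, t] e.2) →
      Finite P ∧ Nat.card P ≤ Nat.card M) :
    ∃ rels : Finset (FreeGroup (Fin 3)), rels.card ≤ E.length ∧
      Nonempty (PresentedGroup (↑rels : Set (FreeGroup (Fin 3))) ≃* M) := by
  classical
  set R : Finset (FreeGroup (Fin 3)) := (E.map fun e => e.1 * e.2⁻¹).toFinset with hR
  refine ⟨R, (List.toFinset_card_le _).trans (List.length_map _).le, ?_⟩
  have hrel : ∀ r ∈ (R : Set (FreeGroup (Fin 3))), FreeGroup.lift ![a, b, c] r = 1 := by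
    intro r hr
    obtain ⟨e, he, rfl⟩ := List.mem_map.1 (List.mem_toFinset.1 hr)
    rw [map_mul, map_inv, hE e he, mul_inv_cancel]
  set φ := PresentedGroup.toGroup hrel
  set o := PresentedGroup.of (rels := (R : Set (FreeGroup (Fin 3)))) with ho
  have hgenP : Subgroup.closure ({o 0, o 1, o 2} : Set (PresentedGroup (R : Set (FreeGroup (Fin 3))))) = ⊤ := by
    rw [eq_top_iff, ← PresentedGroup.closure_range_of, Subgroup.closure_le]
    rintro _ ⟨i, rfl⟩
    refine Subgroup.subset_closure ?_
    fin_cases i <;> simp [ho]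
  have hmk : FreeGroup.lift ![o 0, o 1, o 2] = PresentedGroup.mk (R : Set (FreeGroup (Fin 3))) := by
    refine FreeGroup.ext_hom _ _ fun i => ?_
    fin_cases i <;> simp [ho, PresentedGroup.of]
  have hrels : ∀ e ∈ E, FreeGroup.lift ![o 0, o 1, o 2] e.1 = FreeGroup.lift ![o 0, o 1, o 2] e.2 := by
    intro e he
    rw [hmk]
    have := PresentedGroup.one_of_mem (rels := (R : Set (FreeGroup (Fin 3))))
      (x := e.1 * e.2⁻¹) (List.mem_toFinset.2 (List.mem_map.2 ⟨e, he, rfl⟩))
    rwa [map_mul, map_inv, mul_inv_eq_one] at this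
  obtain ⟨hfin, hle⟩ := hcard _ (o 0) (o 1) (o 2) φ hgenP (PresentedGroup.toGroup.of hrel)
    (PresentedGroup.toGroup.of hrel) (PresentedGroup.toGroup.of hrel) hrels
  have hsurj : Function.Surjective φ := by
    rw [← MonoidHom.range_eq_top, eq_top_iff, ← hgen, Subgroup.closure_le]
    rintro x (rfl | rfl | rfl)
    · exact ⟨o 0, PresentedGroup.toGroup.of hrel⟩
    · exact ⟨o 1, PresentedGroup.toGroup.of hrel⟩
    · exact ⟨o 2, PresentedGroup.toGroup.of hrel⟩
  haveI := hfin
  haveI := Fintype.ofFinite M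
  exact ⟨MulEquiv.ofBijective φ ((Nat.bijective_iff_surjective_and_card _).2
    ⟨hsurj, le_antisymm hle (Nat.card_le_card_of_surjective φ hsurj)⟩)⟩

end Present

section Image

variable {F : Type*} [Field F] [Fintype F] {p : ℕ} [Fact p.Prime] [CharP F p]
  {M : Type*} [Group M] (π : SL(2, F) →* M) {G : Type*} [Group G] (φ : G →* M)
  {u g : G} (r : Fˣ) (hu : φ u = π (xs 1)) (hg : φ g = π (ds r))

include hu hg

theorem exists_image {x : G} (hx : x ∈ orb u g) : ∃ c : F, φ x = π (xs c) := by
  induction hx using Subgroup.closure_induction with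
  | mem b hb =>
    obtain ⟨i, rfl⟩ := hb
    exact ⟨_, by rw [map_cj, hu, hg, cj_xs]⟩
  | one => exact ⟨0, by rw [map_one, xs_zero, map_one]⟩
  | mul b c _ _ h1 h2 =>
    obtain ⟨c1, e1⟩ := h1; obtain ⟨c2, e2⟩ := h2
    exact ⟨c1 + c2, by rw [map_mul, e1, e2, xs_add, map_mul]⟩
  | inv b _ h =>
    obtain ⟨c1, e1⟩ := h
    exact ⟨-c1, by rw [map_inv, e1, xs_neg, map_inv]⟩

theorem image_word (P : (ZMod p)[X]) :
    φ (word p u g P) = π (xs (letI := ZMod.algebra F p; aeval ((r : F) ^ 2) P)) := by
  rw [map_word, hu, hg, word_xs]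

theorem surj_image (hgens : Gens p ((r : F) ^ 2)) (c : F) : ∃ x ∈ orb u g, φ x = π (xs c) := by
  obtain ⟨P, hP⟩ := hgens c
  exact ⟨word p u g P, word_mem_orb p u g P, by rw [image_word π φ r hu hg, hP]⟩

theorem orb_injective (hπ : ∀ c, π (xs c) = 1 → c = 0) (hgens : Gens p ((r : F) ^ 2)) [Finite (orb u g)]
    (hle : Nat.card (orb u g) ≤ Fintype.card F) {x y : G} (hx : x ∈ orb u g) (hy : y ∈ orb u g)
    (h : φ x = φ y) : x = y := by
  choose w hw hwφ using surj_image (p := p) π φ r hu hg hgens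
  let W : F → orb u g := fun c => ⟨w c, hw c⟩
  have hWinj : Function.Injective W := by
    intro c d hcd
    have : π (xs c) = π (xs d) := by rw [← hwφ c, ← hwφ d, show w c = w d from congrArg Subtype.val hcd]
    refine sub_eq_zero.1 (hπ _ ?_)
    rw [sub_eq_add_neg, xs_add, xs_neg, map_mul, map_inv, this, mul_inv_cancel]
  have hW : Function.Bijective W :=
    hWinj.bijective_of_nat_card_le (by rwa [Nat.card_eq_fintype_card (α := F)])
  obtain ⟨c, hc⟩ := hW.2 ⟨x, hx⟩
  obtain ⟨d, hd⟩ := hW.2 ⟨y, hy⟩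
  have ec : w c = x := congrArg Subtype.val hc
  have ed : w d = y := congrArg Subtype.val hd
  have : π (xs c) = π (xs d) := by rw [← hwφ c, ← hwφ d, ec, ed, h]
  have hcd : c = d := by
    refine sub_eq_zero.1 (hπ _ ?_)
    rw [sub_eq_add_neg, xs_add, xs_neg, map_mul, map_inv, this, mul_inv_cancel]
  rw [← ec, ← ed, hcd]

end Image

theorem exists_minpoly_data {F : Type*} [Field F] [Fintype F] {p : ℕ} [Fact p.Prime] [CharP F p] (a : F) :
    ∃ (n : ℕ) (P : (ZMod p)[X]), 0 < n ∧ P.natDegree < n ∧ p ^ n ≤ Fintype.card F ∧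
      (letI := ZMod.algebra F p; aeval a P) = a ^ n := by
  letI := ZMod.algebra F p
  have hint : IsIntegral (ZMod p) a := IsIntegral.of_finite _ a
  set m := minpoly (ZMod p) a
  have hm : m.Monic := minpoly.monic hint
  have hn : 0 < m.natDegree := minpoly.natDegree_pos hint
  refine ⟨m.natDegree, -m.eraseLead, hn, ?_, ?_, ?_⟩
  · rw [natDegree_neg]
    exact lt_of_le_of_lt (eraseLead_natDegree_le m) (by omega)
  · have := minpoly.natDegree_le (A := ZMod p) a
    refine (Nat.pow_le_pow_right (Fact.out : p.Prime).pos this).trans ?_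
    rw [Module.card_eq_pow_finrank (K := ZMod p) (V := F), ZMod.card]
  · have h0 : aeval a (m.eraseLead + C m.leadingCoeff * X ^ m.natDegree) = 0 := by
      rw [eraseLead_add_C_mul_X_pow]; exact minpoly.aeval _ _
    rw [hm.leadingCoeff, map_one, one_mul, map_add, map_pow, aeval_X] at h0
    rw [map_neg]
    linear_combination -h0

theorem word_mem_first {G : Type*} [Group G] {p n : ℕ} {u g : G} {P : (ZMod p)[X]}
    (hP : P.natDegree < n) (S : Set G) :
    word p u g P ∈ Subgroup.closure (S ∪ cj u g '' Set.Iio n) :=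
  word_mem_of p u g fun i hi => Subgroup.subset_closure (Or.inr ⟨i, lt_of_le_of_lt hi hP, rfl⟩)

end Cfsg.Lib.Linear.ShortPres
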