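import Cfsg.Agent.Lib.Linear.ShortPres.Words
import Cfsg.Agent.Lib.Linear.ShortPres.FieldGen
import Cfsg.Agent.Lib.Linear.GLTwo

/-!
# Short presentations: the elements of `SL₂`
-/

set_option autoImplicit false

namespace Cfsg.Lib.Linear.ShortPres

open Polynomial Matrix
open scoped MatrixGroups

variable {F : Type*} [Field F]

/-- Root elements. -/
def xs (c : F) : SL(2, F) := Cfsg.Lib.Linear.Two.ut (Multiplicative.ofAdd c)

/-- Diagonal elements. -/
def ds (r : Fˣ) : SL(2, F) := ⟨!![(r : F), 0; 0, ((r⁻¹ : Fˣ) : F)], by simp [det_fin_two]⟩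

/-- The Weyl element. -/
def ts : SL(2, F) := ⟨!![0, 1; -1, 0], by simp [det_fin_two]⟩

theorem xs_coe (c : F) : (xs c : Matrix (Fin 2) (Fin 2) F) = !![1, c; 0, 1] := rfl

theorem ds_coe (r : Fˣ) : (ds r : Matrix (Fin 2) (Fin 2) F) = !![(r : F), 0; 0, ((r⁻¹ : Fˣ) : F)] := rfl

theorem ts_coe : (ts (F := F) : Matrix (Fin 2) (Fin 2) F) = !![0, 1; -1, 0] := rfl

theorem xs_zero : xs (0 : F) = 1 := by rw [xs, ofAdd_zero, map_one]

theorem xs_add (a b : F) : xs (a + b) = xs a * xs b := by rw [xs, ofAdd_add, map_mul]; rfl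

theorem xs_neg (a : F) : xs (-a) = (xs a)⁻¹ := by rw [xs, ofAdd_neg, map_inv]; rfl

theorem xs_nsmul (n : ℕ) (a : F) : xs ((n : F) * a) = xs a ^ n := by
  rw [xs, ← nsmul_eq_mul, ofAdd_nsmul, map_pow]; rfl

theorem xs_inj {a b : F} (h : xs a = xs b) : a = b :=
  Multiplicative.ofAdd.injective (Cfsg.Lib.Linear.Two.ut_injective h)

/-- `ds` as a homomorphism. -/
def dsHom : Fˣ →* SL(2, F) where
  toFun := ds
  map_one' := by ext i j; fin_cases i <;> fin_cases j <;> simp [ds]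
  map_mul' a b := Subtype.ext (by
    show !![((a * b : Fˣ) : F), 0; 0, (((a * b)⁻¹ : Fˣ) : F)] = (ds a : Matrix (Fin 2) (Fin 2) F) * ds b
    simp [ds, Matrix.mul_fin_two, mul_comm])

theorem ds_pow (r : Fˣ) (n : ℕ) : ds (r ^ n) = ds r ^ n := map_pow (dsHom (F := F)) r n

theorem ds_mul (a b : Fˣ) : ds (a * b) = ds a * ds b := map_mul (dsHom (F := F)) a b

theorem ds_inv (r : Fˣ) : ds r⁻¹ = (ds r)⁻¹ := map_inv (dsHom (F := F)) r

theorem ds_one : ds (1 : Fˣ) = 1 := map_one (dsHom (F := F))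

theorem ds_conj (r : Fˣ) (c : F) : ds r * xs c * (ds r)⁻¹ = xs ((r : F) ^ 2 * c) := by
  rw [mul_inv_eq_iff_eq_mul]
  have : (r : F) ≠ 0 := r.ne_zero
  ext i j; fin_cases i <;> fin_cases j <;>
    simp [ds_coe, xs_coe, Matrix.SpecialLinearGroup.coe_mul, Matrix.mul_apply, Fin.sum_univ_two] <;> field_simp

theorem ts_conj_ds (r : Fˣ) : ts * ds r * (ts (F := F))⁻¹ = (ds r)⁻¹ := by
  rw [mul_inv_eq_iff_eq_mul, ← ds_inv]
  ext i j; fin_cases i <;> fin_cases j <;> simp [ds_coe, ts_coe, Matrix.SpecialLinearGroup.coe_mul, Matrix.mul_apply, Fin.sum_univ_two]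

theorem ts_sq : ts * ts = ds (-1 : Fˣ) := by
  ext i j; fin_cases i <;> fin_cases j <;> simp [ds_coe, ts_coe, Matrix.SpecialLinearGroup.coe_mul, Matrix.mul_apply, Fin.sum_univ_two]

theorem ts_conj_xs (a : Fˣ) :
    ts * xs (a : F) * (ts)⁻¹ = xs (-((a⁻¹ : Fˣ) : F)) * ds a⁻¹ * ts * xs (-((a⁻¹ : Fˣ) : F)) := by
  rw [mul_inv_eq_iff_eq_mul]
  have : (a : F) ≠ 0 := a.ne_zero
  ext i j; fin_cases i <;> fin_cases j <;>
    simp [ds_coe, ts_coe, xs_coe, Matrix.SpecialLinearGroup.coe_mul, Matrix.mul_apply, Fin.sum_univ_two] <;> field_simp <;> ring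

theorem center_eq_of_xs {c : F} (h : xs c ∈ Subgroup.center SL(2, F)) : c = 0 := by
  obtain ⟨r, -, hr⟩ := Matrix.SpecialLinearGroup.mem_center_iff.1 h
  have := congrFun (congrFun hr 0) 1
  simpa [xs_coe] using this.symm

theorem closure_gens {S : Subgroup SL(2, F)} (hx : ∀ c, xs c ∈ S) (ht : ts ∈ S) : S = ⊤ := by
  rw [eq_top_iff, ← Cfsg.Lib.Linear.closure_transvection_eq_top (ι := Fin 2) (F := F), Subgroup.closure_le]
  rintro _ ⟨i, j, hij, c, rfl⟩
  have hup : Matrix.SpecialLinearGroup.transvection (show (0 : Fin 2) ≠ 1 by decide) c = xs c := by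
    refine Subtype.ext ?_
    rw [Matrix.SpecialLinearGroup.transvection_coe, xs_coe]
    ext a b; fin_cases a <;> fin_cases b <;> simp [Matrix.transvection, Matrix.single]
  have hlo : Matrix.SpecialLinearGroup.transvection (show (1 : Fin 2) ≠ 0 by decide) c = ts * xs (-c) * ts⁻¹ := by
    rw [eq_mul_inv_iff_mul_eq]
    ext a b; fin_cases a <;> fin_cases b <;>
      simp [Matrix.SpecialLinearGroup.transvection_coe, xs_coe, ts_coe, Matrix.transvection, Matrix.single, Matrix.mul_apply, Fin.sum_univ_two]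
  fin_cases i <;> fin_cases j
  · exact absurd rfl hij
  · exact (show _ ∈ S from hup ▸ hx c)
  · exact (show _ ∈ S from hlo ▸ S.mul_mem (S.mul_mem ht (hx _)) (S.inv_mem ht))
  · exact absurd rfl hij

variable {M : Type*} [Group M] (π : SL(2, F) →* M)

theorem cj_xs (r : Fˣ) (i : ℕ) :
    cj (π (xs 1)) (π (ds r)) i = π (xs (((r : F) ^ 2) ^ i)) := by
  rw [← map_cj, cj, ← ds_pow, ds_conj, Units.val_pow_eq_pow_val, mul_one]
  congr 2; ring

theorem word_xs {p : ℕ} [Fact p.Prime] [CharP F p] (r : Fˣ) (P : (ZMod p)[X]) :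
    word p (π (xs 1)) (π (ds r)) P = π (xs (letI := ZMod.algebra F p; aeval ((r : F) ^ 2) P)) := by
  letI := ZMod.algebra F p
  rw [aeval_eq_sum_range]
  unfold word
  rw [Finset.sum_eq_multiset_sum, Finset.range_val]
  show _ = (π.comp (Cfsg.Lib.Linear.Two.ut (F := F))) (Multiplicative.ofAdd _)
  rw [show (Multiset.range (P.natDegree + 1)) = ((List.range (P.natDegree + 1) : List ℕ) : Multiset ℕ) from rfl,
    Multiset.map_coe, Multiset.sum_coe, ofAdd_list_prod, map_list_prod, List.map_map, List.map_map]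
  congr 1
  refine List.map_congr_left fun i _ => ?_
  simp only [Function.comp_apply, MonoidHom.comp_apply]
  show _ = π (xs _)
  rw [cj_xs, ← map_pow, ← xs_nsmul, Algebra.smul_def]
  congr 3
  rw [ZMod.natCast_val]
  rfl

end Cfsg.Lib.Linear.ShortPres
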