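import Cfsg.Agent.Lib.Linear.ShortPres.Root

/-!
# Short presentations of `SL₂` and `PSL₂` in odd characteristic
-/

set_option autoImplicit false

namespace Cfsg.Lib.Linear.ShortPres

open Polynomial Matrix
open scoped MatrixGroups

/-- The word exponents: the step `k`, the optional second step and the three polynomials. -/
structure OddData (p : ℕ) where
  k : ℕ
  l : Option ℕ
  n : ℕ
  Pn : (ZMod p)[X]
  Ph : (ZMod p)[X]

/-- The seven common relations. -/
def baseRels {p : ℕ} (D : OddData p) : List (FreeGroup (Fin 3) × FreeGroup (Fin 3)) :=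
  [(U0 ^ p, 1), (U0 * cj U0 (H0 ^ D.k) 1, cj U0 (H0 ^ D.k) 1 * U0),
   (match D.l with
    | none => (U0 ^ p, 1)
    | some l => (H0 ^ l * U0 * (H0 ^ l)⁻¹, cj U0 (H0 ^ D.k) 1 * U0)),
   (cj U0 (H0 ^ D.k) D.n, word p U0 (H0 ^ D.k) D.Pn),
   (H0 * U0 * H0⁻¹, word p U0 (H0 ^ D.k) D.Ph),
   (T0 * H0 * T0⁻¹, H0⁻¹),
   (T0 * U0 * T0⁻¹, U0⁻¹ * T0 * U0⁻¹)]

variable {F : Type*} [Field F] [Fintype F] {p : ℕ} [Fact p.Prime] [CharP F p]

/-- What the exponents and polynomials must satisfy. -/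
structure OddSpec (ζ : Fˣ) (D : OddData p) : Prop where
  gens : Gens p (((ζ ^ D.k : Fˣ) : F) ^ 2)
  pos : 0 < D.n
  deg : D.Pn.natDegree < D.n
  small : p ^ D.n ≤ Fintype.card F
  step : (letI := ZMod.algebra F p; aeval (((ζ ^ D.k : Fˣ) : F) ^ 2) D.Pn) = (((ζ ^ D.k : Fˣ) : F) ^ 2) ^ D.n
  torus : (letI := ZMod.algebra F p; aeval (((ζ ^ D.k : Fˣ) : F) ^ 2) D.Ph) = (ζ : F) ^ 2
  extra : (D.l = none → D.n ≤ 2) ∧
    ∀ l, D.l = some l → ((ζ ^ l : Fˣ) : F) ^ 2 = ((ζ ^ D.k : Fˣ) : F) ^ 2 + 1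

theorem exists_oddData (ζ : Fˣ) (hord : orderOf (ζ : F) = Fintype.card F - 1) (hp : p ≠ 2)
    (hgen : ∀ x : Fˣ, ∃ i : ℕ, x = ζ ^ i) : ∃ D : OddData p, OddSpec ζ D := by
  letI := ZMod.algebra F p
  have h2 : (2 : F) ≠ 0 := Ring.two_ne_zero (by rw [ringChar.eq F p]; exact hp)
  by_cases h11 : 11 ≤ Fintype.card F
  · obtain ⟨s, r, hs, hr, hsr, hg⟩ := exists_sq_pair (p := p) hord h11 h2
    obtain ⟨k, hk⟩ := hgen (Units.mk0 s hs)
    obtain ⟨l, hl⟩ := hgen (Units.mk0 r hr)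
    have hks : ((ζ ^ k : Fˣ) : F) = s := by rw [← hk, Units.val_mk0]
    have hls : ((ζ ^ l : Fˣ) : F) = r := by rw [← hl, Units.val_mk0]
    obtain ⟨n, Pn, hn, hdeg, hsmall, hstep⟩ := exists_minpoly_data (p := p) (s ^ 2)
    obtain ⟨Ph, hPh⟩ := hg ((ζ : F) ^ 2)
    refine ⟨⟨k, some l, n, Pn, Ph⟩, ?_, hn, hdeg, hsmall, ?_, ?_, ?_, ?_⟩
    · simpa only [hks] using hg
    · simpa only [hks] using hstep
    · simpa only [hks] using hPh
    · simp
    · intro l' hl'
      obtain rfl : l = l' := by simpa using hl'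
      rw [hks, hls, hsr]
  · obtain ⟨n, Pn, hn, hdeg, hsmall, hstep⟩ := exists_minpoly_data (p := p) (((ζ ^ 1 : Fˣ) : F) ^ 2)
    have hg : Gens p (((ζ ^ 1 : Fˣ) : F) ^ 2) := by rw [pow_one]; exact gens_sq hord
    obtain ⟨Ph, hPh⟩ := hg ((ζ : F) ^ 2)
    refine ⟨⟨1, none, n, Pn, Ph⟩, hg, hn, hdeg, hsmall, hstep, hPh, ?_, fun l hl => by simp at hl⟩
    intro _
    have hp3 : 3 ≤ p := lt_of_le_of_ne (Fact.out : p.Prime).two_le (Ne.symm hp)
    by_contra h3
    replace h3 : ¬ n ≤ 2 := h3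
    have hn3 : 3 ≤ n := by omega
    have h1 : 3 ^ 3 ≤ p ^ n := le_trans (Nat.pow_le_pow_left hp3 3) (Nat.pow_le_pow_right (by omega) hn3)
    omega

section Sat

variable {M : Type*} [Group M] (π : SL(2, F) →* M) {ζ : Fˣ} {D : OddData p} (S : OddSpec ζ D)
include S

theorem baseRels_sat : ∀ e ∈ baseRels D,
    FreeGroup.lift ![π (xs 1), π (ds ζ), π ts] e.1 = FreeGroup.lift ![π (xs 1), π (ds ζ), π ts] e.2 := by
  letI := ZMod.algebra F p
  set L := FreeGroup.lift ![π (xs (1 : F)), π (ds ζ), π ts] with hL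
  have hU : L U0 = π (xs 1) := by simp [hL]
  have hH : L H0 = π (ds ζ) := by simp [hL]
  have hT : L T0 = π ts := by simp [hL]
  have hpow : ∀ m : ℕ, π (ds ζ) ^ m = π (ds (ζ ^ m)) := fun m => by rw [← map_pow, ds_pow]
  have hup : π (xs (1 : F)) ^ p = 1 := by
    rw [← map_pow, ← xs_nsmul, CharP.cast_eq_zero, zero_mul, xs_zero, map_one]
  intro e he
  simp only [baseRels, List.mem_cons, List.not_mem_nil, or_false] at he
  rcases he with rfl | rfl | rfl | rfl | rfl | rfl | rfl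
  · simp only [map_pow, map_one, hU, hup]
  · simp only [map_mul, map_cj, map_pow, hU, hH, hpow, cj_xs]
    rw [← map_mul, ← map_mul, ← xs_add, ← xs_add, add_comm]
  · rcases hl : D.l with _ | l
    · simp only [map_pow, map_one, hU, hup]
    · simp only [map_mul, map_inv, map_cj, map_pow, hU, hH, hpow, cj_xs]
      rw [← map_inv, ← map_mul, ← map_mul, ← map_mul, ds_conj, mul_one, ← xs_add, S.extra.2 l hl, pow_one]
  · simp only [map_word, map_cj, map_pow, hU, hH, hpow, cj_xs, word_xs, S.step]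
  · simp only [map_mul, map_inv, map_word, map_pow, hU, hH, hpow, word_xs, S.torus]
    rw [← map_inv, ← map_mul, ← map_mul, ds_conj, mul_one]
  · simp only [map_mul, map_inv, hH, hT]
    rw [← map_inv, ← map_mul, ← map_mul, ts_conj_ds, map_inv]
  · simp only [map_mul, map_inv, hU, hT]
    rw [← map_inv, ← map_mul, ← map_mul]
    have h := ts_conj_xs (1 : Fˣ)
    rw [inv_one, ds_one, Units.val_one, mul_one, xs_neg] at h
    rw [h, map_mul, map_mul, map_inv]

end Sat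

section Bound

variable {M : Type*} [Group M] (π : SL(2, F) →* M) {ζ : Fˣ} {D : OddData p} (S : OddSpec ζ D)
  (hπ : ∀ c, π (xs c) = 1 → c = 0) (hgen : ∀ x : Fˣ, ∃ i : ℕ, x = ζ ^ i)
  (hq : Fintype.card F % 2 = 1)
  {P : Type} [Group P] {u h t : P} (φ : P →* M)
  (hu : φ u = π (xs 1)) (hh : φ h = π (ds ζ))
  (hrels : ∀ e ∈ baseRels D, FreeGroup.lift ![u, h, t] e.1 = FreeGroup.lift ![u, h, t] e.2)
include S hπ hu hh hrels

theorem base_facts :
    u ^ p = 1 ∧ t * h * t⁻¹ = h⁻¹ ∧ t * u * t⁻¹ = u⁻¹ * t * u⁻¹ ∧ Finite (orb u (h ^ D.k)) ∧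
      Nat.card (orb u (h ^ D.k)) ≤ Fintype.card F ∧
      h ∈ Subgroup.normalizer (orb u (h ^ D.k) : Set P) ∧
      (∀ x ∈ orb u (h ^ D.k), ∀ y ∈ orb u (h ^ D.k), φ x = φ y → x = y) := by
  obtain ⟨k, l, n, Pn, Ph⟩ := D
  have h0 := hrels _ (List.mem_cons_self)
  have h1 := hrels _ (List.mem_cons_of_mem _ (List.mem_cons_self))
  have h2 := hrels _ (List.mem_cons_of_mem _ (List.mem_cons_of_mem _ (List.mem_cons_self)))
  have h3 := hrels _ (List.mem_cons_of_mem _ (List.mem_cons_of_mem _ (List.mem_cons_of_mem _ (List.mem_cons_self))))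
  have h4 := hrels _ (List.mem_cons_of_mem _ (List.mem_cons_of_mem _ (List.mem_cons_of_mem _
    (List.mem_cons_of_mem _ (List.mem_cons_self)))))
  have h5 := hrels _ (List.mem_cons_of_mem _ (List.mem_cons_of_mem _ (List.mem_cons_of_mem _
    (List.mem_cons_of_mem _ (List.mem_cons_of_mem _ (List.mem_cons_self))))))
  have h6 := hrels _ (List.mem_cons_of_mem _ (List.mem_cons_of_mem _ (List.mem_cons_of_mem _
    (List.mem_cons_of_mem _ (List.mem_cons_of_mem _ (List.mem_cons_of_mem _ (List.mem_cons_self)))))))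
  simp only [map_mul, map_inv, map_pow, map_one, map_cj, map_word, FreeGroup.lift_apply_of,
    Matrix.cons_val_zero, Matrix.cons_val_one, Matrix.cons_val] at h0 h1 h3 h4 h5 h6
  set g := h ^ k with hg
  have hrec : cj u g n ∈ Subgroup.closure (cj u g '' Set.Iio n) := by
    have := word_mem_first (u := u) (g := g) S.deg ∅
    rw [Set.empty_union] at this
    rw [h3]; exact this
  have hc : ∀ i, Commute u (cj u g i) := by
    rcases l with _ | l
    · exact commute_cj_small S.pos (S.extra.1 rfl) h1 hrec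
    · simp only [map_mul, map_inv, map_pow, map_cj, FreeGroup.lift_apply_of, Matrix.cons_val_zero,
        Matrix.cons_val_one] at h2
      exact commute_cj ((Commute.refl h).pow_pow k l) h1 h2
  have hcard := orb_card (T := ∅) (Fact.out : p.Prime).pos S.pos h0 hc (by simp) (by simpa using hrec)
  haveI := hcard.1
  have hle : Nat.card (orb u g) ≤ Fintype.card F := by simpa using hcard.2.trans (by simpa using S.small)
  refine ⟨h0, h5, h6, hcard.1, hle, ?_, fun x hx y hy e => ?_⟩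
  · refine Subgroup.mem_normalizer_fintype fun x hx => ?_
    exact orb_closed ((Commute.refl h).pow_right k) (by rw [h4]; exact word_mem_orb p u g Ph) hx
  · refine orb_injective (p := p) π φ (ζ ^ k) hu ?_ hπ S.gens hle hx hy e
    rw [map_pow, hh, ← map_pow, ds_pow]

include hgen hq

/-- `j` is half the order of the torus; `e` is an odd exponent giving a second representative. -/
theorem odd_bound (hgenP : Subgroup.closure ({u, h, t} : Set P) = ⊤) (j : ℕ)
    (hj : 2 * j = Fintype.card F - 1) (N : ℕ) (hN : 0 < N) (hhN : h ^ (2 * j) = 1 → h ^ N = 1)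
    (hsq : t * t ∈ Subgroup.zpowers h) (e : ℕ) (he : Odd e)
    (v : P) (hv : v ∈ orb u (h ^ D.k)) (hvφ : φ v = π (xs ((ζ : F) ^ e)))
    (hvt : ∃ a ∈ orb u (h ^ D.k), ∃ f ∈ Subgroup.zpowers h, ∃ b ∈ orb u (h ^ D.k), t * v * t⁻¹ = a * f * t * b) :
    Finite P ∧ Nat.card P ≤ Fintype.card F * N * (1 + Fintype.card F) := by
  obtain ⟨hup, hth, htu, hfin, hle, hnorm, hinj⟩ := base_facts π S hπ φ hu hh hrels
  haveI := hfin
  set U := orb u (h ^ D.k) with hU
  have huU : u ∈ U := self_mem u _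
  have hconjU : ∀ i : ℕ, ∀ x ∈ U, h ^ i * x * (h ^ i)⁻¹ ∈ U := fun i x hx =>
    (Subgroup.mem_normalizer_iff.1 (pow_mem hnorm i) x).1 hx
  have hconjU' : ∀ i : ℕ, ∀ x ∈ U, (h ^ i)⁻¹ * x * h ^ i ∈ U := fun i x hx => by
    have := (Subgroup.mem_normalizer_iff.1 (inv_mem (pow_mem hnorm i)) x).1 hx
    simpa using this
  have hφconj : ∀ (i : ℕ) (x : P) (c : F), φ x = π (xs c) →
      φ (h ^ i * x * (h ^ i)⁻¹) = π (xs (((ζ : F) ^ i) ^ 2 * c)) := by
    intro i x c hx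
    rw [map_mul, map_mul, map_inv, map_pow, hh, hx, ← map_pow, ← ds_pow, ← map_inv, ← map_mul, ← map_mul,
      ds_conj, Units.val_pow_eq_pow_val]
  have hζq : (ζ : F) ^ (2 * j) = 1 := by
    rw [hj]; exact FiniteField.pow_card_sub_one_eq_one (ζ : F) ζ.ne_zero
  have hflip : ∀ i : ℕ, t * h ^ i = (h ^ i)⁻¹ * t := by
    intro i
    rw [← mul_inv_eq_iff_eq_mul, ← conj_pow, hth, inv_pow]
  -- the order of the torus generator
  have hz2 : h ^ (2 * j) = 1 := by
    set z := h ^ j with hz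
    have hzu : z * u * z⁻¹ = u := hinj _ (hconjU j u huU) _ huU (by
      rw [hφconj j u 1 hu, hu, ← pow_mul, mul_comm j 2, hζq, one_mul])
    have hzu' : z * u = u * z := mul_inv_eq_iff_eq_mul.1 hzu
    have hc : Commute z u := hzu'
    have hcinv : Commute z u⁻¹ := hc.inv_right
    have htz : t * z = z⁻¹ * t := hflip j
    have h1 : z * (t * u * t⁻¹) * z⁻¹ = t * u * t⁻¹ := by
      have e1 : z * t = t * z⁻¹ := by rw [eq_mul_inv_iff_mul_eq, mul_assoc, htz, mul_inv_cancel_left]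
      have e2 : t⁻¹ * z⁻¹ = z * t⁻¹ := by
        have := congrArg (·⁻¹) e1
        simpa using this
      calc z * (t * u * t⁻¹) * z⁻¹ = (z * t) * u * (t⁻¹ * z⁻¹) := by simp [mul_assoc]
        _ = t * (z⁻¹ * u * z) * t⁻¹ := by rw [e1, e2]; simp [mul_assoc]
        _ = t * u * t⁻¹ := by rw [show z⁻¹ * u * z = u by rw [mul_assoc, ← hc.eq, inv_mul_cancel_left]]
    have h2 : z * t * z⁻¹ = t := by
      rw [htu] at h1
      have : z * (u⁻¹ * t * u⁻¹) * z⁻¹ = u⁻¹ * (z * t * z⁻¹) * u⁻¹ := by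
        rw [show z * (u⁻¹ * t * u⁻¹) = (z * u⁻¹) * t * u⁻¹ by simp [mul_assoc], hcinv.eq,
          show u⁻¹ * z * t * u⁻¹ * z⁻¹ = u⁻¹ * (z * t) * (u⁻¹ * z⁻¹) by simp [mul_assoc],
          show u⁻¹ * z⁻¹ = z⁻¹ * u⁻¹ from hcinv.inv_left.eq.symm]
        simp [mul_assoc]
      rw [this] at h1
      exact mul_left_cancel (mul_right_cancel h1)
    have h3 : z * t = t * z := mul_inv_eq_iff_eq_mul.1 h2
    rw [htz] at h3
    rw [mul_comm 2 j, pow_mul, ← hz, pow_two]
    exact eq_inv_iff_mul_eq_one.1 (mul_right_cancel h3)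
  have C : Cells U u h t := by
    refine ⟨hgenP, huU, hnorm, hth, hsq, fun x hx => ?_⟩
    obtain ⟨c, hc⟩ := exists_image π φ (ζ ^ D.k) hu (by rw [map_pow, hh, ← map_pow, ds_pow]) hx
    by_cases hc0 : c = 0
    · left
      have : x = 1 := hinj x hx 1 (one_mem _) (by rw [map_one, hc, hc0, xs_zero, map_one])
      rw [this]; exact one_mem _
    right
    have key : ∀ (i : ℕ) (w : P) (d : F), w ∈ U → φ w = π (xs d) → c = ((ζ : F) ^ i) ^ 2 * d →
        (∃ a ∈ U, ∃ f ∈ Subgroup.zpowers h, ∃ b ∈ U, t * w * t⁻¹ = a * f * t * b) →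
        ∃ a ∈ U, ∃ f ∈ Subgroup.zpowers h, ∃ b ∈ U, t * x * t⁻¹ = a * f * t * b := by
      rintro i w d hw hwφ hcd ⟨a, ha, f, hf, b, hb, hab⟩
      have hxw : x = h ^ i * w * (h ^ i)⁻¹ :=
        hinj _ hx _ (hconjU i w hw) (by rw [hφconj i w d hwφ, hc, hcd])
      refine ⟨(h ^ i)⁻¹ * a * h ^ i, hconjU' i a ha, (h ^ i)⁻¹ * f * (h ^ i)⁻¹,
        mul_mem (mul_mem (inv_mem (pow_mem (Subgroup.mem_zpowers h) i)) hf) (inv_mem (pow_mem (Subgroup.mem_zpowers h) i)),
        (h ^ i)⁻¹ * b * h ^ i, hconjU' i b hb, ?_⟩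
      have e1 := hflip i
      have e2 : (h ^ i)⁻¹ * t⁻¹ = t⁻¹ * h ^ i := by
        have e3 : t * (h ^ i)⁻¹ = h ^ i * t := by
          rw [mul_inv_eq_iff_eq_mul, mul_assoc, e1, mul_inv_cancel_left]
        calc (h ^ i)⁻¹ * t⁻¹ = (t * h ^ i)⁻¹ := by rw [_root_.mul_inv_rev]
          _ = t⁻¹ * h ^ i := by rw [e1, _root_.mul_inv_rev, inv_inv]
      calc t * x * t⁻¹ = (t * h ^ i) * w * ((h ^ i)⁻¹ * t⁻¹) := by rw [hxw]; simp [mul_assoc]
        _ = (h ^ i)⁻¹ * (t * w * t⁻¹) * h ^ i := by rw [e1, e2]; simp [mul_assoc]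
        _ = (h ^ i)⁻¹ * a * f * (t * b * h ^ i) := by rw [hab]; simp [mul_assoc]
        _ = (h ^ i)⁻¹ * a * f * ((t * h ^ i) * ((h ^ i)⁻¹ * b * h ^ i)) := by simp [mul_assoc]
        _ = _ := by
          rw [e1]
          have hfc : (h ^ i)⁻¹ * f = f * (h ^ i)⁻¹ := by
            obtain ⟨m, rfl⟩ := Subgroup.mem_zpowers_iff.1 hf
            exact ((Commute.refl h).zpow_right m).pow_left i |>.inv_left.eq
          simp only [mul_assoc]
          congr 2
          rw [← mul_assoc (h ^ i) ((h ^ i)⁻¹), mul_inv_cancel, one_mul]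
    obtain ⟨m, hm⟩ := hgen (Units.mk0 c hc0)
    have hcm : c = (ζ : F) ^ m := by rw [← Units.val_pow_eq_pow_val, ← hm, Units.val_mk0]
    rcases Nat.even_or_odd m with ⟨i, rfl⟩ | hodd
    · refine key i u 1 huU hu (by rw [hcm, mul_one, ← pow_mul]; ring_nf) ⟨u⁻¹, inv_mem huU, 1, one_mem _,
        u⁻¹, inv_mem huU, by rw [htu, mul_one]⟩
    · obtain ⟨i, hi⟩ : Even (m + e * (2 * j - 1)) := by
        refine hodd.add_odd (he.mul ?_)
        rcases Nat.eq_zero_or_pos j with h0 | h0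
        · have : 1 < Fintype.card F := Fintype.one_lt_card
          omega
        · exact ⟨j - 1, by omega⟩
      refine key i v _ hv hvφ ?_ hvt
      rw [hcm, ← pow_mul, ← pow_add]
      have hm2 : i * 2 + e = m + e * (2 * j) := by
        have : e * (2 * j - 1) + e = e * (2 * j) := by
          rw [← Nat.mul_succ]; congr 1
          rcases Nat.eq_zero_or_pos j with h0 | h0
          · have : 1 < Fintype.card F := Fintype.one_lt_card
            omega
          · omega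
        omega
      rw [hm2, pow_add, mul_comm e, pow_mul, hζq, one_pow, mul_one]
  obtain ⟨hP, hcardP⟩ := C.card_le hN (by rw [hhN hz2]; exact one_mem _) (fun y : U => (y : P))
    fun y hy => ⟨⟨y, hy⟩, 1, one_mem _, one_mem _, (one_mul y).symm⟩
  refine ⟨hP, hcardP.trans ?_⟩
  exact Nat.mul_le_mul (Nat.mul_le_mul hle le_rfl) (Nat.add_le_add_left hle 1)

end Bound

end Cfsg.Lib.Linear.ShortPres
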