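import Mathlib

/-!
# Short presentations: the word lemmas

A root subgroup generated by the conjugates of one element `u` under one element `g` is elementary
abelian as soon as `u` commutes with one conjugate and a second commuting element turns `u` into a
product of two neighbours (the device of Campbell, Robertson and Williams).
-/

set_option autoImplicit false

namespace Cfsg.Lib.Linear.ShortPres

open Polynomial

variable {G H : Type*} [Group G] [Group H]

/-- The conjugate of `u` by `g ^ i`. -/
def cj (u g : G) (i : ℕ) : G := g ^ i * u * (g ^ i)⁻¹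

theorem cj_zero (u g : G) : cj u g 0 = u := by simp [cj]

theorem cj_add (u g : G) (a b : ℕ) : cj u g (a + b) = g ^ a * cj u g b * (g ^ a)⁻¹ := by
  simp [cj, pow_add, mul_assoc]

theorem cj_succ (u g : G) (i : ℕ) : cj u g (i + 1) = g * cj u g i * g⁻¹ := by
  simp [cj, pow_succ', mul_assoc]

theorem map_cj (f : G →* H) (u g : G) (i : ℕ) : f (cj u g i) = cj (f u) (f g) i := by simp [cj]

theorem cj_pow {u g : G} {p : ℕ} (h : u ^ p = 1) (i : ℕ) : cj u g i ^ p = 1 := by
  rw [cj, conj_pow, h, mul_one, mul_inv_cancel]

/-- The subgroup generated by the conjugates of `u`. -/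
def orb (u g : G) : Subgroup G := Subgroup.closure (Set.range (cj u g))

theorem cj_mem (u g : G) (i : ℕ) : cj u g i ∈ orb u g := Subgroup.subset_closure ⟨i, rfl⟩

theorem self_mem (u g : G) : u ∈ orb u g := by simpa [cj_zero] using cj_mem u g 0

theorem commute_shift {u g : G} {a b : ℕ} (h : Commute u (cj u g b)) :
    Commute (cj u g a) (cj u g (a + b)) := by
  have := h.map (MulAut.conj (g ^ a)).toMonoidHom
  simp only [MulEquiv.coe_toMonoidHom, MulAut.conj_apply] at this
  rw [← cj_add] at this
  exact this

theorem commute_cj {u g g' : G} (hgg : Commute g g') (h1 : Commute u (cj u g 1))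
    (hb : g' * u * g'⁻¹ = cj u g 1 * u) : ∀ i, Commute u (cj u g i) := by
  intro i
  induction i using Nat.strong_induction_on with
  | _ i ih =>
    match i, ih with
    | 0, _ => rw [cj_zero]
    | 1, _ => exact h1
    | i + 2, ih =>
      have hconj : ∀ j, g' * cj u g j * g'⁻¹ = cj u g (j + 1) * cj u g j := by
        intro j
        have e : g' * cj u g j * g'⁻¹ = g ^ j * (g' * u * g'⁻¹) * (g ^ j)⁻¹ := by
          have hc : g' * g ^ j = g ^ j * g' := (hgg.symm.pow_right j).eq
          have hc' : (g ^ j)⁻¹ * g'⁻¹ = g'⁻¹ * (g ^ j)⁻¹ := by rw [← mul_inv_rev, hc, mul_inv_rev]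
          calc g' * cj u g j * g'⁻¹ = (g' * g ^ j) * u * ((g ^ j)⁻¹ * g'⁻¹) := by simp [cj, mul_assoc]
            _ = _ := by rw [hc, hc']; simp [mul_assoc]
        rw [e, hb, show j + 1 = j + 1 from rfl, cj_add u g j 1]
        simp [cj, mul_assoc]
      have hA : Commute (cj u g 1 * u) (cj u g (i + 2) * cj u g (i + 1)) := by
        have hmap := (ih (i + 1) (by omega)).map (MulAut.conj g').toMonoidHom
        simp only [MulEquiv.coe_toMonoidHom, MulAut.conj_apply] at hmap
        rwa [hb, hconj] at hmap
      have hu1 : Commute u (cj u g (i + 1)) := ih (i + 1) (by omega)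
      have h11 : Commute (cj u g 1) (cj u g (i + 1)) := by
        rw [add_comm i 1]
        exact commute_shift (ih i (by omega))
      have hB : Commute (cj u g 1 * u) (cj u g (i + 2)) := by
        have := hA.mul_right (h11.mul_left hu1).inv_right
        simpa using this
      have h12 : Commute (cj u g 1) (cj u g (i + 2)) := by
        rw [show i + 2 = 1 + (i + 1) by omega]
        exact commute_shift hu1
      have := h12.inv_left.mul_left hB
      simpa using this

section Orb

variable {u g : G}

theorem orb_comm (hc : ∀ i, Commute u (cj u g i)) {x y : G} (hx : x ∈ orb u g) (hy : y ∈ orb u g) :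
    Commute x y := by
  have hgen : ∀ a b, Commute (cj u g a) (cj u g b) := by
    intro a b
    rcases le_total a b with h | h
    · obtain ⟨c, rfl⟩ := Nat.exists_eq_add_of_le h
      exact commute_shift (hc c)
    · obtain ⟨c, rfl⟩ := Nat.exists_eq_add_of_le h
      exact (commute_shift (hc c)).symm
  induction hx, hy using Subgroup.closure_induction₂ with
  | mem a b ha hb =>
    obtain ⟨i, rfl⟩ := ha
    obtain ⟨j, rfl⟩ := hb
    exact hgen i j
  | one_left a _ => exact Commute.one_left a
  | one_right a _ => exact Commute.one_right a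
  | mul_left a b c _ _ _ h1 h2 => exact h1.mul_left h2
  | mul_right a b c _ _ _ h1 h2 => exact h1.mul_right h2
  | inv_left a b _ _ h => exact h.inv_left
  | inv_right a b _ _ h => exact h.inv_right

theorem orb_pow (hc : ∀ i, Commute u (cj u g i)) {p : ℕ} (hp : u ^ p = 1) {x : G} (hx : x ∈ orb u g) :
    x ^ p = 1 := by
  induction hx using Subgroup.closure_induction with
  | mem a ha =>
    obtain ⟨i, rfl⟩ := ha
    exact cj_pow hp i
  | one => exact one_pow p
  | mul a b ha hb h1 h2 => rw [(orb_comm hc ha hb).mul_pow, h1, h2, mul_one]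
  | inv a _ h => rw [inv_pow, h, inv_one]

theorem orb_le_of_closed {W : Subgroup G} (hu : u ∈ W) (hg : ∀ x ∈ W, g * x * g⁻¹ ∈ W) : orb u g ≤ W := by
  rw [orb, Subgroup.closure_le]
  rintro _ ⟨i, rfl⟩
  induction i with
  | zero => simpa [cj_zero] using hu
  | succ i ih => rw [cj_succ]; exact hg _ ih

theorem orb_closed {a : G} (ha : Commute a g) (hau : a * u * a⁻¹ ∈ orb u g) {x : G} (hx : x ∈ orb u g) :
    a * x * a⁻¹ ∈ orb u g := by
  have hg : ∀ y ∈ orb u g, g * y * g⁻¹ ∈ orb u g := by
    intro y hy
    induction hy using Subgroup.closure_induction with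
    | mem b hb => obtain ⟨i, rfl⟩ := hb; rw [← cj_succ]; exact cj_mem u g _
    | one => simp
    | mul b c _ _ h1 h2 => simpa [mul_assoc] using mul_mem h1 h2
    | inv b _ h => simpa [mul_assoc] using inv_mem h
  induction hx using Subgroup.closure_induction with
  | mem b hb =>
    obtain ⟨i, rfl⟩ := hb
    induction i with
    | zero => simpa [cj_zero] using hau
    | succ i ih =>
      have e : a * cj u g (i + 1) * a⁻¹ = g * (a * cj u g i * a⁻¹) * g⁻¹ := by
        have h' : g⁻¹ * a⁻¹ = a⁻¹ * g⁻¹ := by rw [← mul_inv_rev, ha.eq, mul_inv_rev]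
        calc a * cj u g (i + 1) * a⁻¹ = (a * g) * cj u g i * (g⁻¹ * a⁻¹) := by simp [cj_succ, mul_assoc]
          _ = _ := by rw [ha.eq, h']; simp [mul_assoc]
      rw [e]; exact hg _ ih
  | one => simp
  | mul b c _ _ h1 h2 => simpa [mul_assoc] using mul_mem h1 h2
  | inv b _ h => simpa [mul_assoc] using inv_mem h

end Orb

/-- A subgroup generated by `k` commuting elements of exponent `p` has order at most `p ^ k`. -/
theorem card_closure_le {p : ℕ} (hp : 0 < p) (s : Finset G)
    (hcomm : ∀ x ∈ Subgroup.closure (s : Set G), ∀ y ∈ Subgroup.closure (s : Set G), Commute x y)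
    (hexp : ∀ x ∈ Subgroup.closure (s : Set G), x ^ p = 1) :
    Finite (Subgroup.closure (s : Set G)) ∧ Nat.card (Subgroup.closure (s : Set G)) ≤ p ^ s.card := by
  classical
  letI : CommGroup (Subgroup.closure (s : Set G)) :=
    { (inferInstance : Group (Subgroup.closure (s : Set G))) with
      mul_comm := fun a b => Subtype.ext (hcomm a a.2 b b.2) }
  have hfg : Group.FG (Subgroup.closure (s : Set G)) := Group.closure_finset_fg s
  have hd := card_dvd_exponent_pow_rank' (Subgroup.closure (s : Set G)) (n := p)
    fun x => Subtype.ext (hexp x x.2)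
  have hpos : 0 < Nat.card (Subgroup.closure (s : Set G)) :=
    Nat.pos_of_dvd_of_pos hd (pow_pos hp _)
  refine ⟨(Nat.card_pos_iff.1 hpos).2, (Nat.le_of_dvd (pow_pos hp _) hd).trans ?_⟩
  exact Nat.pow_le_pow_right hp (Subgroup.rank_closure_finset_le_card s)

variable (p : ℕ)

/-- The element of the root subgroup attached to a polynomial. -/
def word (u g : G) (P : (ZMod p)[X]) : G :=
  ((List.range (P.natDegree + 1)).map fun i => cj u g i ^ (P.coeff i).val).prod

theorem map_word (f : G →* H) (u g : G) (P : (ZMod p)[X]) :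
    f (word p u g P) = word p (f u) (f g) P := by
  simp only [word, map_list_prod, List.map_map]
  congr 1
  exact List.map_congr_left fun i _ => by simp [map_cj]

theorem word_mem_of (u g : G) {P : (ZMod p)[X]} {W : Subgroup G}
    (h : ∀ i ≤ P.natDegree, cj u g i ∈ W) : word p u g P ∈ W := by
  refine Subgroup.list_prod_mem _ fun x hx => ?_
  obtain ⟨i, hi, rfl⟩ := List.mem_map.1 hx
  exact pow_mem (h i (Nat.lt_succ_iff.1 (List.mem_range.1 hi))) _

theorem word_mem_orb (u g : G) (P : (ZMod p)[X]) : word p u g P ∈ orb u g :=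
  word_mem_of p u g fun i _ => cj_mem u g i

end Cfsg.Lib.Linear.ShortPres
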